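import Cfsg.Agent.Lib.Extra.SuzFive.Lift
import Cfsg.Agent.Lib.UFourThreeLocal.FrameOf

/-!
# The elementary abelian group of order 243
-/

set_option autoImplicit false
set_option maxRecDepth 10000
set_option linter.style.haveILetI false
set_option linter.unusedSectionVars false

namespace Cfsg.Lib.Extra.SuzFive

open Cfsg Module Cfsg.Lib.Linear Cfsg.Lib.Linear.Orth Cfsg.Lib.Extra.Wide Cfsg.Lib.Extra.SuzLocal
open Cfsg.Lib.Extra.SuzThree
open Cfsg.Lib.UFourThreeLocal (Loc Axis mulH conjH invH okH pow3 commH elts elts_spec mem_elts tCodes)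
open Subgroup

attribute [local irreducible] Cfsg.Lib.UFourThreeLocal.elts mulH conjH invH okH pow3 commH

variable {G : Type*} [Group G] {ι : Type} [Fintype ι] [DecidableEq ι] {D : Data G ι}

/-- Coordinates in the quotient along the three elements, with the lifts of their generators. -/
structure Ax (T : Tri D) where
  /-- The coordinates. -/
  L : Loc T.zbar
  /-- The axis. -/
  l : CQ T.y0
  axis : Axis L l
  /-- The second element up to inversion. -/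
  b : G
  hb : b = T.y2 ∨ b = T.y2⁻¹
  b_y0 : Commute b T.y0
  e1 : L.ψ 192 = cmk T.c01.symm
  e2 : L.ψ 8 = cmk b_y0
  /-- The lift of the outer element of order four. -/
  μ : G
  μ_y0 : Commute μ T.y0
  μ_z : Commute μ D.z
  eμ : cmk μ_y0 = L.ψ 1152
  /-- The lift of the swap. -/
  σ : G
  σ_y0 : Commute σ T.y0
  σ_z : Commute σ D.z
  eσ : cmk σ_y0 = L.ψ 576
  /-- The inverted lift of the axis. -/
  u : G
  u_y0 : Commute u T.y0
  eu : cmk u_y0 = l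
  u_inv : D.z * u * D.z⁻¹ = u⁻¹
  u_cube : u ^ 3 = 1

theorem exists_ax [Finite G] (T : Tri D) : Nonempty (Ax T) := by
  obtain ⟨L, e1, e2⟩ := T.exists_loc
  obtain ⟨l, X⟩ := L.exists_axis
  obtain ⟨μ, hμ, hμz, eμ⟩ := T.exists_lift_zbar (L.cent Loc.m_ok)
  obtain ⟨σ, hσ, hσz, eσ⟩ := T.exists_lift_zbar (L.cent (Loc.ok_const (h := 576) (by decide)))
  obtain ⟨u, hu, eu, ui, u3⟩ := T.inverted_lift X.cube X.inv_z
  rcases e2 with e2 | e2
  · exact ⟨⟨L, l, X, T.y2, Or.inl rfl, T.c02.symm, e1, e2, μ, hμ, hμz, eμ, σ, hσ, hσz, eσ, u, hu, eu, ui, u3⟩⟩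
  · exact ⟨⟨L, l, X, T.y2⁻¹, Or.inr rfl, T.c02.symm.inv_left, e1, e2, μ, hμ, hμz, eμ, σ, hσ, hσz, eσ, u, hu, eu,
      ui, u3⟩⟩

namespace Ax

variable {T : Tri D} (F : Ax T)

/-- The second inverted element. -/
def u2 : G := F.μ * F.u * F.μ⁻¹

theorem u2_y0 : Commute F.u2 T.y0 := (F.μ_y0.mul_left F.u_y0).mul_left F.μ_y0.inv_left

theorem eu2 : cmk F.u2_y0 = F.L.ψ 1152 * F.l * (F.L.ψ 1152)⁻¹ := by rw [← F.eμ, ← F.eu]; rfl

theorem u2_cube : F.u2 ^ 3 = 1 := by rw [u2, conj_pow, F.u_cube]; group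

theorem u2_inv : D.z * F.u2 * D.z⁻¹ = F.u2⁻¹ := by
  rw [u2, show D.z * (F.μ * F.u * F.μ⁻¹) * D.z⁻¹ = (D.z * F.μ) * F.u * (D.z * F.μ)⁻¹ by group, ← F.μ_z.eq,
    show F.μ * D.z * F.u * (F.μ * D.z)⁻¹ = F.μ * (D.z * F.u * D.z⁻¹) * F.μ⁻¹ by group, F.u_inv]
  group

theorem b_low : F.b ∈ T.low := by
  rcases F.hb with e | e <;> rw [e]
  · exact T.y2_low
  · exact inv_mem T.y2_low

theorem b_z : Commute F.b D.z := (T.low_comm F.b_low).2

theorem b_cube : F.b ^ 3 = 1 := by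
  rcases F.hb with e | e <;> simp [e, inv_pow, T.cube2]

theorem y1_b : Commute T.y1 F.b := by
  rcases F.hb with e | e <;> rw [e]
  · exact T.c12
  · exact T.c12.inv_right

/-- The group of order 243. -/
def A : Subgroup G :=
  (F.L.ySub.comap (QuotientGroup.mk' (selfGrp T.y0))).map (centralizer ({T.y0} : Set G)).subtype

theorem mem_A {g : G} : g ∈ F.A ↔ ∃ hg : Commute g T.y0, cmk hg ∈ F.L.ySub := by
  constructor
  · rintro ⟨⟨g, hg⟩, h, rfl⟩
    exact ⟨mem_centralizer_singleton_iff.1 hg, h⟩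
  · rintro ⟨hg, h⟩
    exact ⟨⟨g, mem_centralizer_singleton_iff.2 hg.eq⟩, h, rfl⟩

theorem A_y0 {g : G} (h : g ∈ F.A) : Commute g T.y0 := (F.mem_A.1 h).1

theorem cmk_y0 : cmk (Commute.refl T.y0) = 1 := (cmk_one _).2 ⟨1, (zpow_one _).symm⟩

variable [Finite G]

theorem y0_mem : T.y0 ∈ F.A := F.mem_A.2 ⟨Commute.refl _, by rw [cmk_y0]; exact one_mem _⟩

theorem y1_mem : T.y1 ∈ F.A := F.mem_A.2 ⟨T.c01.symm, by
  rw [← F.e1, F.axis.ySub_eq_closure]; exact subset_closure (by simp)⟩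

theorem b_mem : F.b ∈ F.A := F.mem_A.2 ⟨F.b_y0, by
  rw [← F.e2, F.axis.ySub_eq_closure]; exact subset_closure (by simp)⟩

theorem y2_mem : T.y2 ∈ F.A := by
  have h := F.b_mem
  rcases F.hb with e | e <;> rw [e] at h
  · exact h
  · exact inv_mem_iff.1 h

theorem u_mem : F.u ∈ F.A := F.mem_A.2 ⟨F.u_y0, by rw [F.eu]; exact F.axis.mem⟩

theorem u2_mem : F.u2 ∈ F.A := F.mem_A.2 ⟨F.u2_y0, by rw [F.eu2]; exact F.axis.two_mem⟩

/-- The generators. -/
def gens : Set G := {T.y0, T.y1, F.b, F.u, F.u2}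

theorem gens_comm : ∀ g ∈ F.gens, Commute g T.y0 := by
  intro g hg
  simp only [gens, Set.mem_insert_iff, Set.mem_singleton_iff] at hg
  rcases hg with rfl | rfl | rfl | rfl | rfl
  exacts [Commute.refl _, T.c01.symm, F.b_y0, F.u_y0, F.u2_y0]

theorem A_eq : F.A = closure F.gens := by
  refine le_antisymm (fun g hg => ?_) ((closure_le _).2 ?_)
  · obtain ⟨hgy, h⟩ := F.mem_A.1 hg
    rw [F.axis.ySub_eq_closure] at h
    have key : ∀ c ∈ closure {F.L.ψ 192, F.L.ψ 8, F.l, F.L.ψ 1152 * F.l * (F.L.ψ 1152)⁻¹},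
        ∃ s ∈ closure F.gens, ∃ hs : Commute s T.y0, cmk hs = c := by
      intro c hc
      induction hc using closure_induction with
      | mem x hx =>
        simp only [Set.mem_insert_iff, Set.mem_singleton_iff] at hx
        rcases hx with rfl | rfl | rfl | rfl
        exacts [⟨_, subset_closure (by simp [gens]), T.c01.symm, F.e1.symm⟩,
          ⟨_, subset_closure (by simp [gens]), F.b_y0, F.e2.symm⟩,
          ⟨_, subset_closure (by simp [gens]), F.u_y0, F.eu⟩,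
          ⟨_, subset_closure (by simp [gens]), F.u2_y0, F.eu2⟩]
      | one => exact ⟨1, one_mem _, Commute.one_left _, (cmk_one _).2 ⟨0, (zpow_zero _).symm⟩⟩
      | mul x y _ _ hx hy =>
        obtain ⟨a, ha, ha', rfl⟩ := hx
        obtain ⟨a', hb, hb', rfl⟩ := hy
        exact ⟨a * a', mul_mem ha hb, ha'.mul_left hb', rfl⟩
      | inv x _ hx =>
        obtain ⟨a, ha, ha', rfl⟩ := hx
        exact ⟨a⁻¹, inv_mem ha, ha'.inv_left, rfl⟩
    obtain ⟨s, hs, hs', e⟩ := key _ h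
    obtain ⟨i, rfl⟩ := (cmk_eq hs' hgy).1 e
    exact mul_mem hs (zpow_mem (subset_closure (by simp [gens])) i)
  · intro g hg
    simp only [gens, Set.mem_insert_iff, Set.mem_singleton_iff] at hg
    rcases hg with rfl | rfl | rfl | rfl | rfl
    exacts [F.y0_mem, F.y1_mem, F.b_mem, F.u_mem, F.u2_mem]

theorem ybar_comm {g h : G} (hg : g ∈ F.A) (hh : h ∈ F.A) : Commute (cmk (F.A_y0 hg)) (cmk (F.A_y0 hh)) :=
  F.axis.y_comm (F.mem_A.1 hg).2 (F.mem_A.1 hh).2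

theorem σ_u : F.σ * F.u * F.σ⁻¹ = F.u := by
  refine T.inverted_ext ((F.σ_y0.mul_left F.u_y0).mul_left F.σ_y0.inv_left) F.u_y0 ?_ F.u_inv ?_
  · rw [show D.z * (F.σ * F.u * F.σ⁻¹) * D.z⁻¹ = (D.z * F.σ) * F.u * (D.z * F.σ)⁻¹ by group, ← F.σ_z.eq,
      show F.σ * D.z * F.u * (F.σ * D.z)⁻¹ = F.σ * (D.z * F.u * D.z⁻¹) * F.σ⁻¹ by group, F.u_inv]
    group
  · show cmk F.σ_y0 * cmk F.u_y0 * (cmk F.σ_y0)⁻¹ = cmk F.u_y0
    rw [F.eσ, F.eu, F.axis.swap_facts.2.2]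

theorem σ_u2 : F.σ * F.u2 * F.σ⁻¹ = F.u2⁻¹ := by
  refine T.inverted_ext ((F.σ_y0.mul_left F.u2_y0).mul_left F.σ_y0.inv_left) F.u2_y0.inv_left ?_ ?_ ?_
  · rw [show D.z * (F.σ * F.u2 * F.σ⁻¹) * D.z⁻¹ = (D.z * F.σ) * F.u2 * (D.z * F.σ)⁻¹ by group, ← F.σ_z.eq,
      show F.σ * D.z * F.u2 * (F.σ * D.z)⁻¹ = F.σ * (D.z * F.u2 * D.z⁻¹) * F.σ⁻¹ by group, F.u2_inv]
    group
  · rw [← conj_inv, F.u2_inv]
  · show cmk F.σ_y0 * cmk F.u2_y0 * (cmk F.σ_y0)⁻¹ = (cmk F.u2_y0)⁻¹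
    rw [F.eσ, F.eu2, F.axis.two_s]

theorem u_u2 : Commute F.u F.u2 := by
  set c := F.u * F.u2 * F.u⁻¹ * F.u2⁻¹ with hc
  have hcy : Commute c T.y0 := ((F.u_y0.mul_left F.u2_y0).mul_left F.u_y0.inv_left).mul_left F.u2_y0.inv_left
  obtain ⟨i, hi⟩ := (cmk_one hcy).1 (by
    show cmk F.u_y0 * cmk F.u2_y0 * (cmk F.u_y0)⁻¹ * (cmk F.u2_y0)⁻¹ = 1
    rw [(F.ybar_comm F.u_mem F.u2_mem).eq, mul_inv_cancel_right, mul_inv_cancel])
  have e1 : F.σ * c * F.σ⁻¹ = c := by rw [hi, (F.σ_y0.zpow_right i).eq, mul_inv_cancel_right]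
  have e2 : F.σ * c * F.σ⁻¹ = F.u * F.u2⁻¹ * F.u⁻¹ * F.u2 := by
    rw [hc, show F.σ * (F.u * F.u2 * F.u⁻¹ * F.u2⁻¹) * F.σ⁻¹ = (F.σ * F.u * F.σ⁻¹) * (F.σ * F.u2 * F.σ⁻¹) *
      (F.σ * F.u * F.σ⁻¹)⁻¹ * (F.σ * F.u2 * F.σ⁻¹)⁻¹ by group, F.σ_u, F.σ_u2, inv_inv]
  have e3 : F.u2 * (F.σ * c * F.σ⁻¹) * F.u2⁻¹ = c⁻¹ := by rw [e2, hc]; group
  rw [e1, hi, (F.u2_y0.zpow_right i).eq, mul_inv_cancel_right] at e3
  have h1 := inv_sq T.order_y0 e3
  rw [h1] at hi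
  exact mul_inv_eq_iff_eq_mul.1 (mul_inv_eq_one.1 hi)

theorem gens_pair : ∀ g ∈ F.gens, ∀ h ∈ F.gens, Commute g h := by
  have hy0 := F.gens_comm
  have t1 : ∀ {v : G}, v ∈ F.A → D.z * v * D.z⁻¹ = v⁻¹ → Commute T.y1 v ∧ Commute F.b v := fun hv hi =>
    ⟨T.comm_inverted T.c01.symm (F.A_y0 hv) T.z1 hi (F.ybar_comm F.y1_mem hv),
      T.comm_inverted F.b_y0 (F.A_y0 hv) F.b_z hi (F.ybar_comm F.b_mem hv)⟩
  obtain ⟨a1, a2⟩ := t1 F.u_mem F.u_inv
  obtain ⟨a3, a4⟩ := t1 F.u2_mem F.u2_inv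
  have a5 := F.u_u2
  have a6 := F.y1_b
  have a7 := T.c01.symm
  have a8 := F.b_y0
  have a9 := F.u_y0
  have a10 := F.u2_y0
  intro g hg h hh
  simp only [gens, Set.mem_insert_iff, Set.mem_singleton_iff] at hg hh
  rcases hg with rfl | rfl | rfl | rfl | rfl <;> rcases hh with rfl | rfl | rfl | rfl | rfl <;>
    first | exact Commute.refl _ | assumption | (apply Commute.symm; assumption)

theorem A_comm {g h : G} (hg : g ∈ F.A) (hh : h ∈ F.A) : Commute g h := by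
  rw [F.A_eq] at hg hh
  have h1 : closure F.gens ≤ centralizer F.gens := (closure_le _).2 fun x hx =>
    mem_centralizer_iff.2 fun y hy => (F.gens_pair y hy x hx).eq
  have h2 : closure F.gens ≤ centralizer ({g} : Set G) := (closure_le _).2 fun x hx =>
    mem_centralizer_singleton_iff.2 (mem_centralizer_iff.1 (h1 hg) x hx)
  exact (mem_centralizer_singleton_iff.1 (h2 hh) : Commute h g).symm

theorem A_cube {g : G} (hg : g ∈ F.A) : g ^ 3 = 1 := by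
  rw [F.A_eq] at hg
  induction hg using closure_induction with
  | mem x hx =>
    simp only [gens, Set.mem_insert_iff, Set.mem_singleton_iff] at hx
    rcases hx with rfl | rfl | rfl | rfl | rfl
    exacts [T.cube0, T.cube1, F.b_cube, F.u_cube, F.u2_cube]
  | one => exact one_pow _
  | mul x y hx hy ex ey =>
    rw [(F.A_comm (F.A_eq ▸ hx) (F.A_eq ▸ hy)).mul_pow, ex, ey, one_mul]
  | inv x _ ex => rw [inv_pow, ex, inv_one]

theorem A_elementary : Cfsg.IsElementaryAbelian 3 F.A :=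
  ⟨⟨⟨fun a b => Subtype.ext (F.A_comm a.2 b.2).eq⟩⟩, fun _ ha => F.A_cube ha⟩

theorem card_A : Nat.card F.A = 3 ^ 5 := by
  rw [A, card_map_of_injective (subtype_injective _)]
  have h1 := card_mul_index (F.L.ySub.comap (QuotientGroup.mk' (selfGrp T.y0)))
  rw [index_comap_of_surjective _ (QuotientGroup.mk'_surjective _), card_centralizer T.order_y0,
    ← card_mul_index F.L.ySub, F.axis.card_ySub, ← mul_assoc] at h1
  exact Nat.eq_of_mul_eq_mul_right (Nat.pos_of_ne_zero index_ne_zero_of_finite) h1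

theorem A_pGroup : IsPGroup 3 F.A := IsPGroup.of_card F.card_A

theorem centralizer_A : centralizer (F.A : Set G) = F.A := by
  refine le_antisymm (fun c hc => ?_) fun a ha => mem_centralizer_iff.2 fun b hb => (F.A_comm hb ha).eq
  rw [mem_centralizer_iff] at hc
  have hcy : Commute c T.y0 := (hc _ F.y0_mem).symm
  refine F.mem_A.2 ⟨hcy, ?_⟩
  rw [← F.axis.centralizer_eq, mem_centralizer_iff]
  intro w hw
  obtain ⟨g, hg, rfl⟩ := cmk_surj w
  exact (cmk_comm (hb := hcy) (hc g (F.mem_A.2 ⟨hg, hw⟩))).eq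

/-- The part centralized by `z`. -/
def tz : Subgroup G := closure {T.y0, T.y1, T.y2}

/-- The part inverted by `z`. -/
def W : Subgroup G := closure {F.u, F.u2}

theorem tz_le : tz (T := T) ≤ F.A ⊓ centralizer ({D.z} : Set G) := (closure_le _).2 fun g hg => by
  simp only [Set.mem_insert_iff, Set.mem_singleton_iff] at hg
  rcases hg with rfl | rfl | rfl
  exacts [⟨F.y0_mem, mem_centralizer_singleton_iff.2 T.z0.eq⟩, ⟨F.y1_mem, mem_centralizer_singleton_iff.2 T.z1.eq⟩,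
    ⟨F.y2_mem, mem_centralizer_singleton_iff.2 T.z2.eq⟩]

theorem W_le : F.W ≤ F.A := (closure_le _).2 fun g hg => by
  rcases hg with rfl | rfl
  exacts [F.u_mem, F.u2_mem]

theorem decomp {g : G} (hg : g ∈ F.A) : ∃ t ∈ tz (T := T), ∃ k n : ℕ, g = t * (F.u ^ k * F.u2 ^ n) := by
  have hc : ∀ {x y : G}, x ∈ F.A → y ∈ F.A → Commute x y := fun hx hy => F.A_comm hx hy
  rw [F.A_eq] at hg
  induction hg using closure_induction with
  | mem x hx =>
    simp only [gens, Set.mem_insert_iff, Set.mem_singleton_iff] at hx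
    rcases hx with rfl | rfl | rfl | rfl | rfl
    · exact ⟨T.y0, subset_closure (by simp), 0, 0, by simp⟩
    · exact ⟨T.y1, subset_closure (by simp), 0, 0, by simp⟩
    · refine ⟨F.b, ?_, 0, 0, by simp⟩
      rcases F.hb with e | e <;> rw [e]
      exacts [subset_closure (by simp), inv_mem (subset_closure (by simp))]
    · exact ⟨1, one_mem _, 1, 0, by simp⟩
    · exact ⟨1, one_mem _, 0, 1, by simp⟩
  | one => exact ⟨1, one_mem _, 0, 0, by simp⟩
  | mul x y _ _ ex ey =>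
    obtain ⟨t, ht, k, n, rfl⟩ := ex
    obtain ⟨t', ht', k', n', rfl⟩ := ey
    refine ⟨t * t', mul_mem ht ht', k + k', n + n', ?_⟩
    rw [(hc (mul_mem (pow_mem F.u_mem k) (pow_mem F.u2_mem n)) (F.tz_le ht').1).mul_mul_mul_comm, pow_add,
      pow_add, ((hc F.u2_mem F.u_mem).pow_pow n k').mul_mul_mul_comm]
  | inv x _ ex =>
    obtain ⟨t, ht, k, n, rfl⟩ := ex
    refine ⟨t⁻¹, inv_mem ht, 2 * k, 2 * n, inv_eq_of_mul_eq_one_right ?_⟩
    rw [(hc (mul_mem (pow_mem F.u_mem k) (pow_mem F.u2_mem n)) (inv_mem (F.tz_le ht).1)).mul_mul_mul_comm,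
      mul_inv_cancel, one_mul, ((hc F.u2_mem F.u_mem).pow_pow n (2 * k)).mul_mul_mul_comm, ← pow_add, ← pow_add,
      show k + 2 * k = 3 * k by ring, show n + 2 * n = 3 * n by ring, pow_mul, pow_mul, F.u_cube, F.u2_cube,
      one_pow, one_pow, one_mul]

theorem inverted_mem_W {g : G} (hg : g ∈ F.A) (hi : D.z * g * D.z⁻¹ = g⁻¹) : g ∈ F.W := by
  obtain ⟨t, ht, k, n, rfl⟩ := F.decomp hg
  have hw : F.u ^ k * F.u2 ^ n ∈ F.A := mul_mem (pow_mem F.u_mem k) (pow_mem F.u2_mem n)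
  have htz : Commute t D.z := mem_centralizer_singleton_iff.1 (F.tz_le ht).2
  rw [show D.z * (t * (F.u ^ k * F.u2 ^ n)) * D.z⁻¹ =
      D.z * t * D.z⁻¹ * ((D.z * F.u ^ k * D.z⁻¹) * (D.z * F.u2 ^ n * D.z⁻¹)) by group, ← conj_pow, ← conj_pow,
    F.u_inv, F.u2_inv, ← htz.eq, mul_inv_cancel_right, (F.A_comm (F.tz_le ht).1 hw).eq, mul_inv_rev,
    mul_inv_rev, inv_pow, inv_pow, ((F.A_comm F.u_mem F.u2_mem).pow_pow k n).inv_inv.eq, mul_left_inj] at hi
  have h2 : t = 1 := orderOf_eq_one_iff.1 (Nat.eq_one_of_dvd_coprimes (by norm_num : Nat.Coprime 2 3)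
    (orderOf_dvd_of_pow_eq_one (by rw [pow_two]; exact eq_inv_iff_mul_eq_one.1 hi))
    (orderOf_dvd_of_pow_eq_one (F.A_cube (F.tz_le ht).1)))
  rw [h2, one_mul]
  exact mul_mem (pow_mem (subset_closure (by simp)) k) (pow_mem (subset_closure (by simp)) n)

theorem cent_z_mem {g : G} (hg : g ∈ F.A) (hz : Commute g D.z) : g ∈ tz (T := T) := by
  obtain ⟨t, ht, k, n, rfl⟩ := F.decomp hg
  have htz : Commute t D.z := mem_centralizer_singleton_iff.1 (F.tz_le ht).2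
  have hw : Commute (F.u ^ k * F.u2 ^ n) D.z := by
    have := htz.inv_left.mul_left hz
    rwa [inv_mul_cancel_left] at this
  have e : D.z * (F.u ^ k * F.u2 ^ n) * D.z⁻¹ = (F.u ^ k * F.u2 ^ n)⁻¹ := by
    rw [show D.z * (F.u ^ k * F.u2 ^ n) * D.z⁻¹ = (D.z * F.u ^ k * D.z⁻¹) * (D.z * F.u2 ^ n * D.z⁻¹) by group,
      ← conj_pow, ← conj_pow, F.u_inv, F.u2_inv, inv_pow, inv_pow, mul_inv_rev]
    exact ((F.A_comm F.u_mem F.u2_mem).pow_pow k n).inv_inv.eq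
  rw [← hw.eq, mul_inv_cancel_right] at e
  have h2 : F.u ^ k * F.u2 ^ n = 1 := orderOf_eq_one_iff.1 (Nat.eq_one_of_dvd_coprimes (by norm_num : Nat.Coprime 2 3)
    (orderOf_dvd_of_pow_eq_one (by rw [pow_two]; exact eq_inv_iff_mul_eq_one.1 e))
    (orderOf_dvd_of_pow_eq_one (F.A_cube (mul_mem (pow_mem F.u_mem k) (pow_mem F.u2_mem n)))))
  rwa [h2, mul_one]

end Ax

end Cfsg.Lib.Extra.SuzFive
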