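import Cfsg.Agent.Lib.Extra.SuzFive.Norm

/-!
# The elements of the normalizer centralizing `z` induce the whole linear group
-/

set_option autoImplicit false
set_option maxRecDepth 10000
set_option linter.style.haveILetI false
set_option linter.unusedSectionVars false

namespace Cfsg.Lib.Extra.SuzFive

open Cfsg Module Cfsg.Lib.Linear Cfsg.Lib.Linear.Orth Cfsg.Lib.Extra.Wide Cfsg.Lib.Extra.SuzLocal
open Cfsg.Lib.Extra.SuzThree
open Cfsg.Lib.UFourThreeLocal (Loc Axis mulH conjH invH okH pow3 commH elts elts_spec mem_elts tCodes)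
open Subgroup
open scoped Matrix

attribute [local irreducible] Cfsg.Lib.UFourThreeLocal.elts mulH conjH invH okH pow3 commH

theorem card_GL_two_three : Nat.card (GL (Fin 2) (ZMod 3)) = 48 := by
  rw [Matrix.card_GL_field]
  simp [Fin.prod_univ_two]

variable {G : Type*} [Group G] {ι : Type} [Fintype ι] [DecidableEq ι] {D : Data G ι} [Finite G]

namespace Ax

variable {T : Tri D} (F : Ax T)

theorem exists_s01 : ∃ c : F.K, (c : G) * T.y0 * (c : G)⁻¹ = T.y1 ∧ (c : G) * T.y1 * (c : G)⁻¹ = T.y0 ∧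
    (c : G) * T.y2 * (c : G)⁻¹ = T.y2 := by
  obtain ⟨-, -, -, -, -, g5, -⟩ := good_words
  obtain ⟨k0, k1, k2, -, -, -⟩ := perm_checks
  obtain ⟨c, hc, h⟩ := lift_perm T g5 (by decide) (t := ![(0, 1, 0), (1, 0, 0), (0, 0, 1)])
    (fun i => by fin_cases i <;> assumption)
  have e0 : c * T.y0 * c⁻¹ = T.y1 := by simpa [ax, el] using h 0
  have e1 : c * T.y1 * c⁻¹ = T.y0 := by simpa [ax, el] using h 1
  have e2 : c * T.y2 * c⁻¹ = T.y2 := by simpa [ax, el] using h 2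
  exact ⟨⟨c, F.mem_K_gens hc (by rw [e0]; exact subset_closure (by simp))
    (by rw [e1]; exact subset_closure (by simp)) (by rw [e2]; exact subset_closure (by simp))⟩, e0, e1, e2⟩

theorem exists_n0 : ∃ c : F.K, (c : G) * T.y0 * (c : G)⁻¹ = T.y0⁻¹ := by
  obtain ⟨-, -, -, -, -, -, g6⟩ := good_words
  obtain ⟨-, -, -, k0, k1, k2⟩ := perm_checks
  obtain ⟨c, hc, h⟩ := lift_perm T g6 (by decide) (t := ![(2, 0, 0), (0, 2, 0), (0, 0, 1)])
    (fun i => by fin_cases i <;> assumption)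
  have inv2 : ∀ {y : G}, y ^ 3 = 1 → y ^ 2 = y⁻¹ := fun {y} hy =>
    eq_inv_of_mul_eq_one_left (by rw [← pow_succ, hy])
  have e0 : c * T.y0 * c⁻¹ = T.y0⁻¹ := by simpa [ax, el, inv2 T.cube0] using h 0
  exact ⟨⟨c, F.mem_K hc fun t ht => by
    have hle : tz (T := T) ≤ (tz (T := T)).comap (MulAut.conj c).toMonoidHom := (closure_le _).2 fun g hg => by
      obtain ⟨i, rfl⟩ : ∃ i, ax T i = g := by
        rcases hg with rfl | rfl | rfl
        exacts [⟨0, rfl⟩, ⟨1, rfl⟩, ⟨2, rfl⟩]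
      show c * ax T i * c⁻¹ ∈ tz (T := T)
      rw [h i]; exact el_mem T _ _ _
    exact hle ht⟩, e0⟩

theorem exists_to_axis (i : Fin 3) : ∃ c : F.K, (c : G) * T.y0 * (c : G)⁻¹ = ax T i := by
  obtain ⟨s, e0, -, -⟩ := F.exists_s01
  obtain ⟨n, en⟩ := F.exists_n0
  have hback : ∀ (c : F.K) {v : G}, (c : G) * T.y0 * (c : G)⁻¹ = v →
      ((c * n : F.K) : G) * T.y0 * ((c * n : F.K) : G)⁻¹ = v⁻¹ := fun c v hv => by
    rw [Subgroup.coe_mul, ← hv, show (c : G) * n * T.y0 * ((c : G) * n)⁻¹ = c * (n * T.y0 * (n : G)⁻¹) * (c : G)⁻¹ by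
      group, en]
    group
  fin_cases i
  · exact ⟨1, by simp [ax]⟩
  · exact ⟨s, e0⟩
  · have eb : (((⟨F.σ, F.σ_mem_K⟩ : F.K) * s : F.K) : G) * T.y0 * (((⟨F.σ, F.σ_mem_K⟩ : F.K) * s : F.K) : G)⁻¹ = F.b := by
      show F.σ * (s : G) * T.y0 * (F.σ * (s : G))⁻¹ = F.b
      rw [show F.σ * (s : G) * T.y0 * (F.σ * (s : G))⁻¹ = F.σ * ((s : G) * T.y0 * (s : G)⁻¹) * F.σ⁻¹ by group, e0,
        F.σ_y1]
    rcases F.y2_eq with e | e
    · exact ⟨_, eb.trans e.symm⟩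
    · exact ⟨_, (hback _ eb).trans e.symm⟩

theorem exists_orbit : ∃ r : Fin 6 → F.K,
    Function.Injective fun i => (r i : G) * T.y0 * (r i : G)⁻¹ := by
  obtain ⟨n, en⟩ := F.exists_n0
  choose c hc using F.exists_to_axis
  refine ⟨fun i => if i.1 < 3 then c ⟨i.1 % 3, Nat.mod_lt _ (by norm_num)⟩
    else c ⟨i.1 % 3, Nat.mod_lt _ (by norm_num)⟩ * n, ?_⟩
  have hv : ∀ i : Fin 6, (fun j : Fin 6 => ((if j.1 < 3 then c ⟨j.1 % 3, Nat.mod_lt _ (by norm_num)⟩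
      else c ⟨j.1 % 3, Nat.mod_lt _ (by norm_num)⟩ * n : F.K) : G) * T.y0 *
      ((if j.1 < 3 then c ⟨j.1 % 3, Nat.mod_lt _ (by norm_num)⟩
        else c ⟨j.1 % 3, Nat.mod_lt _ (by norm_num)⟩ * n : F.K) : G)⁻¹) i =
      if i.1 < 3 then ax T ⟨i.1 % 3, Nat.mod_lt _ (by norm_num)⟩
      else (ax T ⟨i.1 % 3, Nat.mod_lt _ (by norm_num)⟩)⁻¹ := by
    intro i
    simp only
    split_ifs with h
    · exact hc _
    · rw [Subgroup.coe_mul, ← hc ⟨i.1 % 3, _⟩]
      simp only [mul_inv_rev, mul_assoc]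
      rw [← mul_assoc (n : G) T.y0, ← mul_assoc ((n : G) * T.y0), en]
      group
  intro i j e
  rw [hv, hv] at e
  obtain ⟨-, hinv, hne⟩ := ax_facts T
  have hij : (⟨i.1 % 3, Nat.mod_lt _ (by norm_num)⟩ : Fin 3) = ⟨j.1 % 3, Nat.mod_lt _ (by norm_num)⟩ := by
    by_contra h
    split_ifs at e
    · exact (hne _ _ h).1 e
    · exact (hne _ _ h).2 e
    · exact (hne _ _ (Ne.symm h)).2 e.symm
    · exact (hne _ _ h).1 (inv_injective e)
  rw [hij] at e
  refine Fin.ext ?_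
  have h3 : i.1 % 3 = j.1 % 3 := congrArg Fin.val hij
  split_ifs at e with h1 h2 h2
  · omega
  · exact absurd e (hinv _)
  · exact absurd e.symm (hinv _)
  · omega

theorem kern_conj {k g : F.K} (hk : F.matHom k = 1) : F.matHom (g * k * g⁻¹) = 1 := by
  rw [map_mul, map_mul, hk, mul_one, ← map_mul, mul_inv_cancel, map_one]

theorem kern_ax {k : F.K} (hk : F.matHom k = 1) (i : Fin 3) (h : Commute (k : G) (ax T i)) :
    (k : G) ∈ tz (T := T) := by
  obtain ⟨c, hc⟩ := F.exists_to_axis i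
  have h' : Commute ((c⁻¹ * k * c⁻¹⁻¹ : F.K) : G) T.y0 := by
    have := (Commute.conj_iff ((c : G))⁻¹).2 h
    rw [← hc] at this
    simp only [Subgroup.coe_mul, InvMemClass.coe_inv]
    rwa [show (c : G)⁻¹ * ((c : G) * T.y0 * (c : G)⁻¹) * (c : G)⁻¹⁻¹ = T.y0 by group] at this
  have := F.K_tz c.2 (F.kern_y0 (F.kern_conj hk) h')
  simp only [Subgroup.coe_mul, InvMemClass.coe_inv] at this
  rwa [show (c : G) * ((c : G)⁻¹ * k * (c : G)⁻¹⁻¹) * (c : G)⁻¹ = k by group] at this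

theorem kern_fix_zero {k : F.K} (hk : F.matHom k = 1) :
    (k : G) * T.y0 * (k : G)⁻¹ = T.y0 ∨ (k : G) * T.y0 * (k : G)⁻¹ = T.y0⁻¹ := by
  obtain ⟨j, hj⟩ := six (F.K_z k.2) (F.K_tz k.2 (subset_closure (by simp))) rfl
  by_cases hj0 : j = 0
  · subst hj0; exact hj
  exfalso
  obtain ⟨hcube, hinv, hne⟩ := ax_facts T
  obtain ⟨hm0, hm1, hm2⟩ := F.μ_conj
  have hμ : ∀ i : Fin 3, i ≠ 0 → F.μ * ax T i * F.μ⁻¹ = (ax T i)⁻¹ := fun i hi => by
    fin_cases i
    · exact absurd rfl hi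
    · exact hm1
    · exact hm2
  let m : F.K := ⟨F.μ, F.μ_mem_K⟩
  let c : F.K := k * (m * k⁻¹ * m⁻¹)
  have hc : F.matHom c = 1 := by
    have hk' : F.matHom k⁻¹ = 1 := by
      have := map_mul F.matHom k⁻¹ k
      rwa [inv_mul_cancel, map_one, hk, mul_one, eq_comm] at this
    show F.matHom (k * (m * k⁻¹ * m⁻¹)) = 1
    rw [map_mul, hk, one_mul, F.kern_conj hk']
  set μ' := (k : G) * F.μ * (k : G)⁻¹ with hμ'
  have hcG : (c : G) = μ' * F.μ⁻¹ := by
    show (k : G) * (F.μ * (k : G)⁻¹ * F.μ⁻¹) = _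
    rw [hμ']; group
  -- the image of the first element is fixed by the conjugate
  have hfix : μ' * ax T j * μ'⁻¹ = ax T j := by
    have e : μ' * ((k : G) * T.y0 * (k : G)⁻¹) * μ'⁻¹ = (k : G) * T.y0 * (k : G)⁻¹ := by
      rw [hμ', show (k : G) * F.μ * (k : G)⁻¹ * ((k : G) * T.y0 * (k : G)⁻¹) * ((k : G) * F.μ * (k : G)⁻¹)⁻¹ =
        (k : G) * (F.μ * T.y0 * F.μ⁻¹) * (k : G)⁻¹ by group, hm0]
    rcases hj with h | h <;> rw [h] at e
    · exact e
    · rwa [← conj_inv, inv_inj] at e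
  -- the third axis
  obtain ⟨r, hr0, hrj⟩ : ∃ r : Fin 3, r ≠ 0 ∧ r ≠ j := by
    revert hj0; fin_cases j <;> decide
  have hrfix : μ' * ax T r * μ'⁻¹ = (ax T r)⁻¹ := by
    obtain ⟨c0, hc0⟩ := F.exists_to_axis r
    have hw : (k : G)⁻¹ * ax T r * (k : G) ∈ tz (T := T) := by
      have := F.K_tz (inv_mem k.2) (ax_mem T r)
      rwa [inv_inv] at this
    obtain ⟨q, hq⟩ := six ((F.K_z k.2).inv_left.mul_left (F.K_z c0.2)) hw (show (k : G)⁻¹ * c0 * T.y0 *
      ((k : G)⁻¹ * c0)⁻¹ = (k : G)⁻¹ * ax T r * k by rw [← hc0]; group)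
    have hq0 : q ≠ 0 := by
      rintro rfl
      rcases hq with h | h
      · have : (k : G) * T.y0 * (k : G)⁻¹ = ax T r := by
          rw [show T.y0 = ax T 0 from rfl, ← h]; group
        rcases hj with h' | h' <;> rw [this] at h'
        · exact (hne _ _ hrj).1 h'
        · exact (hne _ _ hrj).2 h'
      · have : (k : G) * T.y0 * (k : G)⁻¹ = (ax T r)⁻¹ := by
          rw [show T.y0 = ((k : G)⁻¹ * ax T r * k)⁻¹ by rw [h, inv_inv]; rfl]; group
        rcases hj with h' | h' <;> rw [this] at h'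
        · exact (hne _ _ hrj).2 (by rw [← h', inv_inv])
        · exact (hne _ _ hrj).1 (inv_injective h')
    have e : F.μ * ((k : G)⁻¹ * ax T r * k) * F.μ⁻¹ = ((k : G)⁻¹ * ax T r * k)⁻¹ := by
      rcases hq with h | h <;> rw [h]
      · exact hμ q hq0
      · rw [← conj_inv, hμ q hq0]
    rw [hμ', show (k : G) * F.μ * (k : G)⁻¹ * ax T r * ((k : G) * F.μ * (k : G)⁻¹)⁻¹ =
      (k : G) * (F.μ * ((k : G)⁻¹ * ax T r * k) * F.μ⁻¹) * (k : G)⁻¹ by group, e]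
    group
  have hμinv : ∀ i : Fin 3, i ≠ 0 → F.μ⁻¹ * ax T i * F.μ = (ax T i)⁻¹ := fun i hi => by
    have h := congrArg (fun w => (F.μ⁻¹ * w * F.μ)⁻¹) (hμ i hi)
    simp only [mul_inv_rev, inv_inv, ← mul_assoc, inv_mul_cancel_right] at h
    simpa [mul_assoc] using h.symm
  have hcr : Commute (c : G) (ax T r) := by
    refine mul_inv_eq_iff_eq_mul.1 ?_
    rw [hcG, show μ' * F.μ⁻¹ * ax T r * (μ' * F.μ⁻¹)⁻¹ = μ' * (F.μ⁻¹ * ax T r * F.μ) * μ'⁻¹ by group,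
      hμinv r hr0, ← conj_inv, hrfix, inv_inv]
  have hcj : Commute (c : G) (ax T j) :=
    F.A_comm (F.tz_le (F.kern_ax hc r hcr)).1 (F.tz_le (ax_mem T j)).1
  have e : (c : G) * ax T j * (c : G)⁻¹ = (ax T j)⁻¹ := by
    rw [hcG, show μ' * F.μ⁻¹ * ax T j * (μ' * F.μ⁻¹)⁻¹ = μ' * (F.μ⁻¹ * ax T j * F.μ) * μ'⁻¹ by group,
      hμinv j hj0, ← conj_inv, hfix]
  rw [hcj.eq, mul_inv_cancel_right] at e
  exact hinv j e

theorem kern_le {k : F.K} (hk : F.matHom k = 1) : (k : G) ∈ tz (T := T) := by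
  have hall : ∀ i, (k : G) * ax T i * (k : G)⁻¹ = ax T i ∨ (k : G) * ax T i * (k : G)⁻¹ = (ax T i)⁻¹ := fun i => by
    obtain ⟨c, hc⟩ := F.exists_to_axis i
    have h := F.kern_fix_zero (F.kern_conj (g := c⁻¹) hk)
    simp only [Subgroup.coe_mul, InvMemClass.coe_inv] at h
    rw [← hc]
    rcases h with h | h
    · left
      calc _ = (c : G) * ((c : G)⁻¹ * k * (c : G)⁻¹⁻¹ * T.y0 * ((c : G)⁻¹ * k * (c : G)⁻¹⁻¹)⁻¹) * (c : G)⁻¹ := by group
        _ = _ := by rw [h]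
    · right
      calc _ = (c : G) * ((c : G)⁻¹ * k * (c : G)⁻¹⁻¹ * T.y0 * ((c : G)⁻¹ * k * (c : G)⁻¹⁻¹)⁻¹) * (c : G)⁻¹ := by group
        _ = _ := by rw [h]; group
  by_cases hsome : ∃ i, (k : G) * ax T i * (k : G)⁻¹ = ax T i
  · obtain ⟨i, hi⟩ := hsome
    exact F.kern_ax hk i (mul_inv_eq_iff_eq_mul.1 hi)
  exfalso
  push Not at hsome
  have hneg : ∀ i, (k : G) * ax T i * (k : G)⁻¹ = (ax T i)⁻¹ := fun i => (hall i).resolve_left (hsome i)
  obtain ⟨hm0, hm1, hm2⟩ := F.μ_conj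
  obtain ⟨s, s0, s1, s2⟩ := F.exists_s01
  set w := (s : G) * ((k : G) * F.μ) * (s : G)⁻¹ with hw
  have hkm : ∀ v, (k : G) * F.μ * v * ((k : G) * F.μ)⁻¹ = k * (F.μ * v * F.μ⁻¹) * (k : G)⁻¹ := fun v => by group
  have hwv : ∀ {v v' : G}, (k : G) * F.μ * v * ((k : G) * F.μ)⁻¹ = v' →
      w * ((s : G) * v * (s : G)⁻¹) * w⁻¹ = s * v' * (s : G)⁻¹ := fun {v v'} h => by
    rw [← h, hw]; group
  have w0 : w * T.y0 * w⁻¹ = T.y0 := by
    have h := hwv (v := T.y1) (v' := T.y1) (by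
      rw [hkm, hm1, ← conj_inv, show T.y1 = ax T 1 from rfl, hneg, inv_inv])
    rwa [s1] at h
  have w1 : w * T.y1 * w⁻¹ = T.y1⁻¹ := by
    have h := hwv (v := T.y0) (v' := T.y0⁻¹) (by rw [hkm, hm0]; exact hneg 0)
    rwa [← conj_inv, s0] at h
  have w2 : w * F.b * w⁻¹ = F.b := by
    have h := hwv (v := T.y2) (v' := T.y2) (by
      rw [hkm, hm2, ← conj_inv, show T.y2 = ax T 2 from rfl, hneg, inv_inv])
    rw [s2] at h
    rcases F.hb with e | e <;> rw [e]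
    · exact h
    · rw [← conj_inv, h]
  have hwy : Commute w T.y0 := mul_inv_eq_iff_eq_mul.1 w0
  have hwz : Commute w D.z :=
    ((F.K_z s.2).mul_left ((F.K_z k.2).mul_left F.μ_z)).mul_left (F.K_z s.2).inv_left
  have hcz : Commute (cmk hwy) T.zbar := cmk_comm (hb := T.z0.symm) hwz
  obtain ⟨o192, o384, o8, -, -, m1, -, -, -, -, -⟩ := codes_three
  have oh := F.L.code_ok hcz
  have e1 : conjH (F.L.code hcz) 192 = 384 := F.L.inj (F.L.conj oh o192).1 o384 (by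
    rw [(F.L.conj oh o192).2, F.L.psi_code, F.e1,
      show F.L.ψ 384 = (F.L.ψ 192)⁻¹ from (inv_eq_of_mul_eq_one_right (by
        rw [F.L.mul_eq o192 o384 m1, F.L.psi_zero])).symm, F.e1]
    show cmk ((hwy.mul_left T.c01.symm).mul_left hwy.inv_left) = cmk T.c01.symm.inv_left
    exact cmk_congr w1)
  have e2 : conjH (F.L.code hcz) 8 = 8 := F.L.inj (F.L.conj oh o8).1 o8 (by
    rw [(F.L.conj oh o8).2, F.L.psi_code, F.e2]
    show cmk ((hwy.mul_left F.b_y0).mul_left hwy.inv_left) = cmk F.b_y0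
    exact cmk_congr w2)
  have kk := elts_spec odd_check oh
  simp only [e1, e2, Nat.beq_refl, Bool.and_self, Bool.not_true, Bool.false_eq_true] at kk

theorem tz_mat {t : F.K} (ht : (t : G) ∈ tz (T := T)) : F.matHom t = 1 := by
  refine F.mat_eq ?_ ?_
  · rw [(F.A_comm (F.tz_le ht).1 F.u_mem).eq, mul_inv_cancel_right]; simp [ZMod.val_one]
  · rw [(F.A_comm (F.tz_le ht).1 F.u2_mem).eq, mul_inv_cancel_right]; simp [ZMod.val_one]

theorem glHom_one {k : F.K} : F.glHom k = 1 ↔ (k : G) ∈ tz (T := T) := by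
  rw [Units.ext_iff, F.glHom_val, Units.val_one]
  exact ⟨F.kern_le, F.tz_mat⟩

theorem card_K : 1296 ≤ Nat.card F.K := by
  obtain ⟨r, hr⟩ := F.exists_orbit
  let f : Fin 6 × (Fin 2 × Fin 2 × Fin 2) × tz (T := T) → F.K := fun p =>
    r p.1 * F.rep p.2.1 * ⟨p.2.2, F.tz_le_K p.2.2.2⟩
  have hf : Function.Injective f := by
    rintro ⟨i, p, t⟩ ⟨i', p', t'⟩ e
    have key : ∀ (j : Fin 6) (q : Fin 2 × Fin 2 × Fin 2) (v : tz (T := T)),
        ((r j * F.rep q * ⟨v, F.tz_le_K v.2⟩ : F.K) : G) * T.y0 *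
          ((r j * F.rep q * ⟨v, F.tz_le_K v.2⟩ : F.K) : G)⁻¹ = (r j : G) * T.y0 * (r j : G)⁻¹ := fun j q v => by
      simp only [Subgroup.coe_mul]
      have h1 : Commute ((F.rep q : F.K) * (v : G)) T.y0 := (F.rep_y0 q).mul_left (F.A_y0 (F.tz_le v.2).1)
      rw [show (r j : G) * (F.rep q : F.K) * v * T.y0 * ((r j : G) * (F.rep q : F.K) * v)⁻¹ =
        r j * ((F.rep q : F.K) * (v : G) * T.y0 * ((F.rep q : F.K) * (v : G))⁻¹) * (r j : G)⁻¹ by group, h1.eq,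
        mul_inv_cancel_right]
    have ei : i = i' := hr (by
      have h := congrArg (fun k : F.K => (k : G) * T.y0 * (k : G)⁻¹) e
      simp only [f] at h
      rwa [key, key] at h)
    subst ei
    simp only [f, mul_assoc] at e
    have e2 := mul_left_cancel e
    have ep : p = p' := by
      have h := congrArg F.matHom e2
      rw [map_mul, map_mul, F.tz_mat (t := ⟨t, F.tz_le_K t.2⟩) t.2, F.tz_mat (t := ⟨t', F.tz_le_K t'.2⟩) t'.2, mul_one, mul_one, F.rep_mat, F.rep_mat] at h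
      exact repMat_inj _ _ _ _ _ _ h
    subst ep
    obtain rfl : t = t' := Subtype.ext (congrArg (fun k : F.K => (k : G)) (mul_left_cancel e2))
    rfl
  have := Nat.card_le_card_of_injective f hf
  rw [Nat.card_prod, Nat.card_prod, card_tz, Nat.card_prod, Nat.card_prod, Nat.card_fin, Nat.card_fin] at this
  exact this

theorem glHom_surj : Function.Surjective F.glHom := by
  rw [← MonoidHom.range_eq_top]
  refine eq_top_of_le_card _ ?_
  have hker : Nat.card F.glHom.ker = 27 := by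
    rw [← card_tz T, show F.glHom.ker = (tz (T := T)).subgroupOf F.K from SetLike.ext fun k => by
      rw [MonoidHom.mem_ker, mem_subgroupOf, F.glHom_one],
      Nat.card_congr (subgroupOfEquivOfLe F.tz_le_K).toEquiv]
  have h := card_mul_index F.glHom.ker
  rw [index_ker, hker] at h
  have := F.card_K
  rw [card_GL_two_three]
  omega

end Ax

end Cfsg.Lib.Extra.SuzFive
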