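import Cfsg.Agent.Lib.Extra.SuzThree.Witness
import Cfsg.Agent.Lib.Extra.SuzThree.Cent

/-!
# Lifts to the centralizer of an element of order three in Suzuki type
-/

set_option autoImplicit false
set_option maxRecDepth 10000
set_option linter.style.haveILetI false
set_option linter.unusedSectionVars false

namespace Cfsg.Lib.Extra.SuzFive

open Cfsg Module Cfsg.Lib.Linear Cfsg.Lib.Linear.Orth Cfsg.Lib.Extra.Wide Cfsg.Lib.Extra.SuzLocal
open Cfsg.Lib.Extra.SuzThree
open Cfsg.Lib.UFourThreeLocal (Loc sMul sInv sInv_spec mulH conjH invH okH pow3 commH elts elts_spec mem_elts)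
open scoped Matrix

attribute [local irreducible] Cfsg.Lib.UFourThreeLocal.elts mulH conjH invH okH pow3 commH

variable {G : Type*} [Group G] {ι : Type} [Fintype ι] [DecidableEq ι] {D : Data G ι}

theorem inv_sq {d : G} {i : ℤ} (hd : orderOf d = 3) (h : d ^ i = (d ^ i)⁻¹) : d ^ i = 1 :=
  eq_one_of_sq hd odd_three (eq_inv_iff_mul_eq_one.1 h)

/-- Conjugated coordinates. -/
def conjLoc {H : Type*} [Group H] {z : H} (L : Loc z) {g : H} (hg : Commute g z) : Loc z where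
  ψ := (L.map g).ψ
  mul := (L.map g).mul
  ok := (L.map g).ok
  inj := (L.map g).inj
  cent hh := by
    have h : Commute (g * L.ψ _ * g⁻¹) (g * z * g⁻¹) := (L.map g).cent hh
    rwa [show g * z * g⁻¹ = z by rw [hg.eq, mul_inv_cancel_right]] at h
  surj {c} hc := (L.map g).surj (by rwa [hg.eq, mul_inv_cancel_right])
  z_eq := by rw [(L.map g).z_eq, hg.eq, mul_inv_cancel_right]
  fused hh h1 h2 := by
    have h : IsConj (g * z * g⁻¹) (g * L.ψ _ * g⁻¹) := (L.map g).fused hh h1 h2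
    rwa [show g * z * g⁻¹ = z by rw [hg.eq, mul_inv_cancel_right]] at h

theorem conjLoc_ψ {H : Type*} [Group H] {z : H} (L : Loc z) {g : H} (hg : Commute g z) (h : ℕ) :
    (conjLoc L hg).ψ h = g * L.ψ h * g⁻¹ := rfl

/-- An element of order three of the second factor commuting with a square root of `z`. -/
theorem second_check : (elts.all fun h => !(Nat.beq (pow3 h) 0 && commH 192 h) || Nat.beq h 0 || Nat.beq h 192 ||
    Nat.beq h 384 || !(elts.any fun g => Nat.beq (mulH g g) 4 && commH h g) || elts.any fun x =>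
      Nat.beq (conjH x 192) 192 && (Nat.beq (conjH x 8) h || Nat.beq (conjH x 16) h)) = true := by
  with_unfolding_all decide +kernel

theorem codes_three : okH 192 = true ∧ okH 384 = true ∧ okH 8 = true ∧ okH 16 = true ∧ okH 1152 = true ∧
    mulH 192 384 = 0 ∧ mulH 8 16 = 0 ∧ conjH 1152 192 = 384 ∧ conjH 1152 8 = 16 ∧ pow3 192 = 0 ∧ pow3 8 = 0 := by
  with_unfolding_all decide +kernel

end Cfsg.Lib.Extra.SuzFive

namespace Cfsg.Lib.Extra.SuzThree.Tri

open Cfsg Module Cfsg.Lib.Linear Cfsg.Lib.Linear.Orth Cfsg.Lib.Extra.Wide Cfsg.Lib.Extra.SuzLocal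
open Cfsg.Lib.Extra.SuzFive
open Cfsg.Lib.UFourThreeLocal (Loc sMul sInv sInv_spec mulH conjH invH okH pow3 commH elts elts_spec mem_elts)
open scoped Matrix

attribute [local irreducible] Cfsg.Lib.UFourThreeLocal.elts mulH conjH invH okH pow3 commH

variable {G : Type*} [Group G] {ι : Type} [Fintype ι] [DecidableEq ι] {D : Data G ι} (T : Tri D)

/-- The product of the two copies of SL(2, 3) as a subgroup. -/
def low : Subgroup G where
  carrier := {x | T.InP x}
  one_mem' := ⟨0, by norm_num, 0, by norm_num, by rw [T.u1_zero, T.u2_zero, mul_one]⟩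
  mul_mem' := T.inP_mul
  inv_mem' := by
    rintro _ ⟨p, hp, q, hq, rfl⟩
    obtain ⟨p', ep⟩ := sInv_spec p hp
    obtain ⟨q', eq'⟩ := sInv_spec q hq
    refine ⟨_, p', _, q', inv_eq_of_mul_eq_one_right ?_⟩
    rw [(T.comm_u _ q).symm.mul_mul_mul_comm, ← T.mul1 hp p', ← T.mul2 hq q', ep, eq', T.u1_zero, T.u2_zero,
      mul_one]

theorem low_comm {x : G} (hx : x ∈ T.low) : Commute x T.y0 ∧ Commute x D.z := by
  obtain ⟨p, -, q, -, rfl⟩ := hx
  exact ⟨T.u_y0 p q, T.u_z p q⟩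

theorem low_one {x : G} (hx : x ∈ T.low) {i : ℤ} (h : x = T.y0 ^ i) : x = 1 := by
  obtain ⟨p, hp, q, hq, rfl⟩ := hx
  exact (T.u_sep hp hq h).2.2

theorem y1_low : T.y1 ∈ T.low :=
  ⟨8, by norm_num, 0, by norm_num, by rw [T.u2_zero, mul_one]; exact ((T.base1.u_high 1).trans (pow_one _)).symm⟩

theorem y2_low : T.y2 ∈ T.low :=
  ⟨0, by norm_num, 8, by norm_num, by rw [T.u1_zero, one_mul]; exact ((T.base2.u_high 1).trans (pow_one _)).symm⟩

theorem z_low : D.z ∈ T.low :=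
  ⟨4, by norm_num, 0, by norm_num, by rw [T.u1_four, T.u2_zero, mul_one]⟩

theorem low_ext {x y : G} (hx : x ∈ T.low) (hy : y ∈ T.low)
    (e : cmk (T.low_comm hx).1 = cmk (T.low_comm hy).1) : x = y := by
  obtain ⟨i, hi⟩ := (cmk_eq _ _).1 e
  have := T.low_one (mul_mem (inv_mem hx) hy) (i := i) (by rw [hi, inv_mul_cancel_left])
  exact inv_mul_eq_one.1 this

theorem low_conj {g x : G} (hy : Commute g T.y0) (hz : Commute g D.z) (hx : x ∈ T.low) :
    g * x * g⁻¹ ∈ T.low := by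
  obtain ⟨hxy, hxz⟩ := T.low_comm hx
  obtain ⟨a, ha, b, hb, rfl⟩ := hx
  have hdy : Commute (g * (T.u1 a * T.u2 b) * g⁻¹) T.y0 := (hy.mul_left hxy).mul_left hy.inv_left
  have hdz : Commute (g * (T.u1 a * T.u2 b) * g⁻¹) D.z := (hz.mul_left hxz).mul_left hz.inv_left
  obtain ⟨i, hi, e⟩ := T.exists_word hz hy
  have hcheck := List.all_eq_true.1 (List.all_eq_true.1 (List.all_eq_true.1 conj_check i hi) (a / 8)
    (List.mem_range.2 (by omega))) (b / 8) (List.mem_range.2 (by omega))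
  simp only [List.any_eq_true, List.mem_range, Nat.beq_eq] at hcheck
  obtain ⟨k, hk, n, hn, he⟩ := hcheck
  obtain ⟨w, hw, ew⟩ := T.of_rot hdz hdy (l := 0) hk hn (by
    rw [D.act_mul _ _ (hz.mul_left (T.u_z a b)) hz.inv_left, D.act_mul _ _ hz (T.u_z a b), D.act_inv hz, e,
      T.u_act, ← T.K.W_append, T.K.W_eq (good_append.2 ⟨good_wd _, good_eW _ _ _⟩)
        (good_append.2 ⟨good_eW _ _ _, good_wd _⟩) he, T.K.W_append, mul_inv_cancel_right])
  rw [ew, pow_zero, one_mul]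
  exact hw

theorem low_lift {c : CQ T.y0} (hc : Commute c T.zbar) (ho : Odd (orderOf c)) :
    ∃ (x : G) (hx : x ∈ T.low), cmk (T.low_comm hx).1 = c := by
  obtain ⟨p, hp, q, hq, rfl⟩ := T.U_odd hc ho
  exact ⟨_, ⟨p, hp, q, hq, rfl⟩, (T.U_mul p q).symm⟩

/-- Elements inverted by `z` with equal images agree. -/
theorem inverted_ext {a b : G} (ha : Commute a T.y0) (hb : Commute b T.y0) (iza : D.z * a * D.z⁻¹ = a⁻¹)
    (izb : D.z * b * D.z⁻¹ = b⁻¹) (e : cmk ha = cmk hb) : a = b := by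
  obtain ⟨i, rfl⟩ := (cmk_eq ha hb).1 e
  have hc := ha.zpow_right i
  rw [show D.z * (a * T.y0 ^ i) * D.z⁻¹ = D.z * a * D.z⁻¹ * (D.z * T.y0 ^ i * D.z⁻¹) by group, iza,
    ((T.z0.symm).zpow_right i).eq, mul_inv_cancel_right, mul_inv_rev, ← hc.inv_inv.eq, mul_right_inj] at izb
  rw [inv_sq T.order_y0 izb, mul_one]

/-- An inverted element of order three has an inverted lift of order three. -/
theorem inverted_lift {c : CQ T.y0} (h3 : c ^ 3 = 1) (hi : T.zbar * c * T.zbar⁻¹ = c⁻¹) :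
    ∃ (u : G) (hu : Commute u T.y0), cmk hu = c ∧ D.z * u * D.z⁻¹ = u⁻¹ ∧ u ^ 3 = 1 := by
  obtain ⟨g, hg, rfl⟩ := cmk_surj c
  have hzz : D.z⁻¹ = D.z := inv_eq_of_mul_eq_one_right D.ctx.sq_z
  have hw : Commute (D.z * g * D.z⁻¹ * g⁻¹) T.y0 :=
    ((T.z0.symm.mul_left hg).mul_left T.z0.symm.inv_left).mul_left hg.inv_left
  have hinv : D.z * (D.z * g * D.z⁻¹ * g⁻¹) * D.z⁻¹ = (D.z * g * D.z⁻¹ * g⁻¹)⁻¹ := by
    rw [hzz]
    simp only [mul_inv_rev, inv_inv, hzz, ← mul_assoc, D.ctx.sq_z, one_mul]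
  have hcw : cmk hw = cmk hg := by
    show T.zbar * cmk hg * T.zbar⁻¹ * (cmk hg)⁻¹ = _
    rw [hi]
    calc (cmk hg)⁻¹ * (cmk hg)⁻¹ = ((cmk hg) ^ 3)⁻¹ * cmk hg := by group
      _ = cmk hg := by rw [h3, inv_one, one_mul]
  refine ⟨_, hw, hcw, hinv, ?_⟩
  rw [← hcw, cmk_pow] at h3
  obtain ⟨i, hi3⟩ := (cmk_one _).1 h3
  have e : D.z * T.y0 ^ i * D.z⁻¹ = (T.y0 ^ i)⁻¹ := by rw [← hi3, ← conj_pow, hinv, inv_pow]
  rw [(T.z0.symm.zpow_right i).eq, mul_inv_cancel_right] at e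
  rw [hi3]
  exact inv_sq T.order_y0 e

/-- An element fixed by `z` commutes with an inverted one if their images do. -/
theorem comm_inverted {t u : G} (ht : Commute t T.y0) (hu : Commute u T.y0) (htz : Commute t D.z)
    (izu : D.z * u * D.z⁻¹ = u⁻¹) (e : Commute (cmk ht) (cmk hu)) : Commute t u := by
  refine mul_inv_eq_iff_eq_mul.1 (T.inverted_ext ((ht.mul_left hu).mul_left ht.inv_left) hu ?_ izu ?_)
  · calc D.z * (t * u * t⁻¹) * D.z⁻¹ = D.z * t * D.z⁻¹ * (D.z * u * D.z⁻¹) * (D.z * t * D.z⁻¹)⁻¹ := by group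
      _ = (t * u * t⁻¹)⁻¹ := by rw [izu, htz.symm.eq, mul_inv_cancel_right]; group
  · show cmk ht * cmk hu * (cmk ht)⁻¹ = cmk hu
    rw [e.eq, mul_inv_cancel_right]

variable [Finite G]

/-- The coordinates can be chosen along the second and third elements. -/
theorem exists_loc : ∃ L : Loc T.zbar, L.ψ 192 = cmk T.c01.symm ∧
    (L.ψ 8 = cmk T.c02.symm ∨ L.ψ 8 = cmk T.c02.symm.inv_left) := by
  haveI : Fact (Nat.Prime 3) := ⟨Nat.prime_three⟩
  obtain ⟨L⟩ := Cfsg.Lib.UFourThreeLocal.loc_of_comp T.exists_comp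
  obtain ⟨o192, o384, o8, o16, o1152, m1, m2, j1, j2, p1, p2⟩ := codes_three
  have hyne : ∀ {y : G} (hy : y ∈ T.low), y ≠ 1 → cmk (T.low_comm hy).1 ≠ 1 := fun hy h e => by
    obtain ⟨i, hi⟩ := (cmk_one _).1 e
    exact h (T.low_one hy hi)
  have y1ne : T.y1 ≠ 1 := fun e => u_codes.1 (T.swap.K.key_eq (u := R0) (w := []) good_words.1 rfl
    (by rw [← T.swap.act0]; show D.act T.y1 = _; rw [e, D.act_one]; rfl))
  have y2ne : T.y2 ≠ 1 := fun e => by
    have := T.K.key_eq (u := R2) (w := []) good_words.2.2.1 rfl (by rw [← T.act2, e, D.act_one]; rfl)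
    exact absurd this (by decide)
  have hu8 : T.u1 8 = T.y1 := (T.base1.u_high 1).trans (pow_one _)
  have hv8 : T.u2 8 = T.y2 := (T.base2.u_high 1).trans (pow_one _)
  set a := cmk T.c01.symm with ha
  set b := cmk T.c02.symm with hb
  have haz : Commute a T.zbar := cmk_comm T.z1
  have hbz : Commute b T.zbar := cmk_comm T.z2
  have hq2 : T.U2 1 * T.U2 1 = T.zbar := by
    refine cmk_mul_congr ?_
    rw [← T.mul2 (by norm_num) (by norm_num)]; exact T.u2_four
  have hq1 : T.U1 1 * T.U1 1 = T.zbar := by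
    refine cmk_mul_congr ?_
    rw [← T.mul1 (by norm_num) (by norm_num)]; exact T.u1_four
  have hroot : ∀ {c q : CQ T.y0} (hc : Commute c T.zbar), q * q = T.zbar → Commute c q →
      (elts.any fun g => Nat.beq (mulH g g) 4 && commH (L.code hc) g) = true := fun {c q} hc hq hcq => by
    have hqz : Commute q T.zbar := by rw [← hq]; exact (Commute.refl q).mul_right (Commute.refl q)
    refine List.any_eq_true.2 ⟨L.code hqz, mem_elts.2 (L.code_ok hqz), ?_⟩
    rw [Bool.and_eq_true, Nat.beq_eq]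
    refine ⟨L.inj (L.ok (L.code_ok hqz) (L.code_ok hqz)) (by with_unfolding_all decide) ?_, ?_⟩
    · rw [L.mul (L.code_ok hqz) (L.code_ok hqz), L.psi_code, L.z_eq, hq]
    · exact (L.psi_comm (L.code_ok hc) (L.code_ok hqz)).1 (by rw [L.psi_code, L.psi_code]; exact hcq)
  have h3 : ∀ {c : CQ T.y0} (hc : Commute c T.zbar), c ^ 3 = 1 → pow3 (L.code hc) = 0 := fun hc h =>
    (L.psi_cube (L.code_ok hc)).1 (by rw [L.psi_code, h])
  have h0 : ∀ {c : CQ T.y0} (hc : Commute c T.zbar), c ≠ 1 → L.code hc ≠ 0 := fun hc h e => h (by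
    rw [← L.psi_code hc, e, L.psi_zero])
  have a3 : a ^ 3 = 1 := by rw [ha, cmk_pow]; exact (cmk_one _).2 ⟨0, by rw [T.cube1, zpow_zero]⟩
  have b3 : b ^ 3 = 1 := by rw [hb, cmk_pow]; exact (cmk_one _).2 ⟨0, by rw [T.cube2, zpow_zero]⟩
  obtain ⟨x, ox, hx⟩ : ∃ x, okH x = true ∧ L.ψ x * L.ψ 192 * (L.ψ x)⁻¹ = a := by
    have k := elts_spec three_check (L.code_ok haz)
    simp only [h3 haz a3, Nat.beq_refl, Bool.not_true, Bool.false_or, hroot haz hq2 (cmk_comm (hu8 ▸ T.comm_u 8 1)),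
      Bool.or_eq_true, Nat.beq_eq, Bool.false_eq_true, or_false] at k
    obtain ⟨x, hx, e⟩ := List.any_eq_true.1 (k.resolve_left (h0 haz (hyne T.y1_low y1ne)))
    rw [Bool.or_eq_true, Nat.beq_eq, Nat.beq_eq] at e
    have ox := mem_elts.1 hx
    rcases e with e | e
    · exact ⟨x, ox, by rw [L.conj_eq ox o192 e, L.psi_code]⟩
    · refine ⟨mulH x 1152, L.ok ox o1152, ?_⟩
      rw [L.mul ox o1152, show L.ψ x * L.ψ 1152 * L.ψ 192 * (L.ψ x * L.ψ 1152)⁻¹ =
        L.ψ x * (L.ψ 1152 * L.ψ 192 * (L.ψ 1152)⁻¹) * (L.ψ x)⁻¹ by group, L.conj_eq o1152 o192 j1,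
        L.conj_eq ox o384 e, L.psi_code]
  set M := conjLoc L (L.cent ox) with hM
  have hM1 : M.ψ 192 = a := hx
  have hroot' : (elts.any fun g => Nat.beq (mulH g g) 4 && commH (M.code hbz) g) = true := by
    have hqz : Commute (T.U1 1) T.zbar := by rw [← hq1]; exact (Commute.refl _).mul_right (Commute.refl _)
    refine List.any_eq_true.2 ⟨M.code hqz, mem_elts.2 (M.code_ok hqz), ?_⟩
    rw [Bool.and_eq_true, Nat.beq_eq]
    refine ⟨M.inj (M.ok (M.code_ok hqz) (M.code_ok hqz)) (by with_unfolding_all decide) ?_, ?_⟩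
    · rw [M.mul (M.code_ok hqz) (M.code_ok hqz), M.psi_code, M.z_eq, hq1]
    · exact (M.psi_comm (M.code_ok hbz) (M.code_ok hqz)).1 (by
        rw [M.psi_code, M.psi_code]; exact cmk_comm (hv8 ▸ (T.comm_u 1 8).symm))
  have hne : ∀ {g : G} (hg : g ∈ T.low), cmk (T.low_comm hg).1 = b → g = T.y2 := fun hg e => T.low_ext hg T.y2_low e
  have k := elts_spec second_check (M.code_ok hbz)
  have hp : pow3 (M.code hbz) = 0 := (M.psi_cube (M.code_ok hbz)).1 (by rw [M.psi_code, b3])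
  have hcm : commH 192 (M.code hbz) = true := (M.psi_comm o192 (M.code_ok hbz)).1 (by
    rw [M.psi_code, hM1]; exact cmk_comm T.c12)
  simp only [hp, hcm, hroot', Nat.beq_refl, Bool.and_self, Bool.not_true, Bool.false_or, Bool.or_eq_true,
    Nat.beq_eq, Bool.false_eq_true, or_false] at k
  have hsep : ∀ l < 3, key (eW 0 l 0) ≠ key R2 := by decide +kernel
  have hnot : ∀ {l : ℕ}, l < 3 → T.y1 ^ l ≠ T.y2 := fun {l} hl e => by
    have := congrArg D.act e
    rw [D.act_pow T.z1, T.act1, T.act2, ← T.K.W_rep] at this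
    have e2 := T.K.key_eq (good_rep good_words.2.1 l) good_words.2.2.1 this
    exact hsep l hl (by simpa [eW, rep] using e2)
  rcases k with ((k | k) | k) | k
  · exfalso
    exact hyne T.y2_low y2ne (show b = 1 by rw [← M.psi_code hbz, k, M.psi_zero])
  · exfalso
    refine hnot (l := 1) (by norm_num) (hne (pow_mem T.y1_low 1) ?_)
    rw [← M.psi_code hbz, k, hM1]; exact cmk_congr (pow_one _)
  · exfalso
    refine hnot (l := 2) (by norm_num) (hne (pow_mem T.y1_low 2) ?_)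
    have e384 : M.ψ 384 = (M.ψ 192)⁻¹ := (inv_eq_of_mul_eq_one_right (by
      rw [M.mul_eq o192 o384 m1, M.psi_zero])).symm
    rw [← M.psi_code hbz, k, e384, hM1]
    refine eq_inv_of_mul_eq_one_left ((congrArg (· * a) (cmk_pow T.c01.symm 2).symm).trans ?_)
    show a ^ 2 * a = 1
    rw [← pow_succ, a3]
  · obtain ⟨w, hw, e⟩ := List.any_eq_true.1 k
    rw [Bool.and_eq_true, Bool.or_eq_true, Nat.beq_eq, Nat.beq_eq, Nat.beq_eq] at e
    have ow := mem_elts.1 hw
    refine ⟨conjLoc M (M.cent ow), ?_, ?_⟩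
    · rw [conjLoc_ψ, M.conj_eq ow o192 e.1, hM1]
    · rcases e.2 with e2 | e2
      · left
        rw [conjLoc_ψ, M.conj_eq ow o8 e2, M.psi_code]
      · right
        have e16 : M.ψ 16 = (M.ψ 8)⁻¹ := (inv_eq_of_mul_eq_one_right (by
          rw [M.mul_eq o8 o16 m2, M.psi_zero])).symm
        have h := M.conj_eq ow o16 e2
        rw [e16, M.psi_code] at h
        rw [conjLoc_ψ, ← cmk_inv T.c02.symm, ← hb, ← h]
        group

end Cfsg.Lib.Extra.SuzThree.Tri
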