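import Cfsg.Agent.Lib.Extra.SuzFive.Residual
import Cfsg.Agent.Lib.Extra.SuzThree.Main

/-!
# The elementary abelian group of order 243 inside a prescribed Sylow subgroup
-/

set_option autoImplicit false
set_option maxRecDepth 10000
set_option linter.style.haveILetI false
set_option linter.unusedSectionVars false

namespace Cfsg.Lib.Extra.SuzFive

open Cfsg Module Cfsg.Lib.Linear Cfsg.Lib.Linear.Orth Cfsg.Lib.Extra.Wide Cfsg.Lib.Extra.SuzLocal
open Cfsg.Lib.Extra.SuzThree
open Subgroup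
open scoped Matrix

variable {G : Type*} [Group G]

theorem map_centralizer_conj {A : Subgroup G} (h : centralizer (A : Set G) = A) (g : G) :
    centralizer ((A.map (MulAut.conj g).toMonoidHom : Subgroup G) : Set G) = A.map (MulAut.conj g).toMonoidHom := by
  refine le_antisymm ?_ ?_
  · intro c hc
    refine ⟨g⁻¹ * c * g, ?_, show g * (g⁻¹ * c * g) * g⁻¹ = c by group⟩
    rw [← h]
    refine mem_centralizer_iff.2 fun a ha => ?_
    have e := mem_centralizer_iff.1 hc _ ⟨a, ha, rfl⟩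
    change g * a * g⁻¹ * c = c * (g * a * g⁻¹) at e
    calc a * (g⁻¹ * c * g) = g⁻¹ * (g * a * g⁻¹ * c) * g := by group
      _ = g⁻¹ * c * g * a := by rw [e]; group
  · rintro _ ⟨a, ha, rfl⟩
    refine mem_centralizer_iff.2 ?_
    rintro _ ⟨b, hb, rfl⟩
    show g * b * g⁻¹ * (g * a * g⁻¹) = g * a * g⁻¹ * (g * b * g⁻¹)
    rw [← h] at ha
    rw [show g * b * g⁻¹ * (g * a * g⁻¹) = g * (b * a) * g⁻¹ by group, mem_centralizer_iff.1 ha b hb]
    group

theorem map_normalizer_conj (A : Subgroup G) (g : G) :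
    (normalizer (A : Set G)).map (MulAut.conj g).toMonoidHom =
      normalizer ((A.map (MulAut.conj g).toMonoidHom : Subgroup G) : Set G) := by
  ext c
  rw [mem_normalizer_iff]
  constructor
  · rintro ⟨n, hn, rfl⟩ h
    show h ∈ A.map _ ↔ g * n * g⁻¹ * h * (g * n * g⁻¹)⁻¹ ∈ A.map _
    simp only [Subgroup.mem_map_equiv]
    rw [MulAut.conj_symm_apply, MulAut.conj_symm_apply,
      show g⁻¹ * (g * n * g⁻¹ * h * (g * n * g⁻¹)⁻¹) * g = n * (g⁻¹ * h * g) * n⁻¹ by group]
    exact mem_normalizer_iff.1 hn _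
  · intro hc
    refine ⟨g⁻¹ * c * g, mem_normalizer_iff.2 fun a => ?_, show g * (g⁻¹ * c * g) * g⁻¹ = c by group⟩
    have h := hc (g * a * g⁻¹)
    simp only [Subgroup.mem_map_equiv] at h
    rw [MulAut.conj_symm_apply, MulAut.conj_symm_apply, show g⁻¹ * (g * a * g⁻¹) * g = a by group,
      show g⁻¹ * (c * (g * a * g⁻¹) * c⁻¹) * g = g⁻¹ * c * g * a * (g⁻¹ * c * g)⁻¹ by group] at h
    exact h

variable [Finite G] {ι : Type} [Fintype ι] [DecidableEq ι] {D : Data G ι}

theorem card_normalizer (T : Tri D) :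
    Nat.card ↥(normalizer ((zpowers T.y0 : Subgroup G) : Set G)) = 3 ^ 7 * (2 ^ 8 * 5 * 7) := by
  haveI : Fintype (GaloisField 3 2) := Fintype.ofFinite _
  have hK : Fintype.card (GaloisField 3 2) = 9 := by
    rw [← Nat.card_eq_fintype_card, GaloisField.card 3 2 (by norm_num)]; norm_num
  haveI : ((zpowers T.y0).subgroupOf (centralizer ((zpowers T.y0 : Subgroup G) : Set G))).Normal := by
    rw [centralizer_zpowers, SuzThree.subgroupOf_self]; infer_instance
  obtain ⟨-, -, h⟩ := main T rfl (GaloisField 3 2) hK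
  rw [← card_mul_index ((centralizer ((zpowers T.y0 : Subgroup G) : Set G)).subgroupOf _), ← relIndex, h,
    Nat.card_congr (subgroupOfEquivOfLe (centralizer_le_normalizer _)).toEquiv, centralizer_zpowers, card_cent]
  norm_num

/-- Both conclusions. -/
theorem conclusion (T : Tri D) {N : Subgroup G} (hN : N = normalizer ((zpowers T.y0 : Subgroup G) : Set G))
    (P : Sylow 3 ↥N) :
    ¬ 3 ∣ ((P : Subgroup ↥N).map N.subtype).index ∧
      ∃ A : Subgroup G, A ≤ (P : Subgroup ↥N).map N.subtype ∧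
        Cfsg.IsElementaryAbelian 3 A ∧ Nat.card A = 3 ^ 5 ∧ centralizer (A : Set G) = A ∧
        ∃ _ : (A.subgroupOf (normalizer (A : Set G))).Normal,
          Cfsg.Spor.IsoM11 (↥(normalizer (A : Set G)) ⧸ A.subgroupOf (normalizer (A : Set G))) := by
  haveI : Fact (Nat.Prime 3) := ⟨Nat.prime_three⟩
  obtain ⟨F⟩ := exists_ax T
  have hcomm_le : ∀ g : G, Commute g T.y0 → g ∈ N := fun g hg => hN ▸ mem_normalizer_fintype fun w hw => by
    obtain ⟨i, rfl⟩ := hw
    show g * T.y0 ^ i * g⁻¹ ∈ zpowers T.y0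
    rw [(hg.zpow_right i).eq, mul_inv_cancel_right]
    exact zpow_mem (mem_zpowers _) i
  have hpre : F.pre ≤ N := by
    rintro _ ⟨⟨g, hg⟩, -, rfl⟩
    exact hcomm_le g (mem_centralizer_singleton_iff.1 hg)
  have hp : IsPGroup 3 (F.pre.subgroupOf N) := F.pre_pGroup.of_equiv (subgroupOfEquivOfLe hpre).symm
  obtain ⟨P1, hP1⟩ := hp.exists_le_sylow
  have hfac : (Nat.card N).factorization 3 = 7 := by
    rw [hN, card_normalizer T, Nat.factorization_mul (by norm_num) (by norm_num), Finsupp.add_apply,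
      Nat.Prime.factorization_pow Nat.prime_three, Finsupp.single_eq_same,
      Nat.factorization_eq_zero_of_not_dvd (show ¬ 3 ∣ 2 ^ 8 * 5 * 7 by norm_num)]
  set P0 := (P1 : Subgroup N).map N.subtype with hP0
  have hc0 : Nat.card P0 = 3 ^ 7 := by
    rw [hP0, card_map_of_injective (subtype_injective _), P1.card_eq_multiplicity, hfac]
  have hpre0 : F.pre ≤ P0 := fun g hg => ⟨⟨g, hpre hg⟩, hP1 hg, rfl⟩
  have hcy : ∀ p ∈ P0, Commute p T.y0 := by
    rintro _ ⟨⟨p, hpN⟩, hp, rfl⟩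
    obtain ⟨k, hk⟩ := P1.2 ⟨_, hp⟩
    have hk' : p ^ 3 ^ k = 1 := congrArg (fun v : (P1 : Subgroup N) => ((v : N) : G)) hk
    have hpN' := hpN
    rw [hN] at hpN'
    show Commute p T.y0
    obtain ⟨i, hi⟩ := mem_zpowers_iff.1 ((mem_normalizer_iff.1 hpN' T.y0).1 (mem_zpowers _))
    obtain ⟨l, hl, el⟩ := zpow_three T.cube0 i
    rw [el] at hi
    refine three_comm hk' ?_
    interval_cases l
    · exfalso
      rw [pow_zero] at hi
      have e := conj_eq_one_iff.1 hi.symm
      have := T.order_y0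
      rw [e, orderOf_one] at this
      norm_num at this
    · exact Or.inl (by rw [← hi, pow_one])
    · exact Or.inr (hi.symm.trans (eq_inv_of_mul_eq_one_left (by rw [← pow_succ, T.cube0])))
  have hSyl : ¬ 3 ^ 8 ∣ Nat.card G := by
    intro hdvd
    haveI : (P0.comap (normalizer (P0 : Set G)).subtype).Normal :=
      (inferInstance : (P0.subgroupOf (normalizer (P0 : Set G))).Normal)
    obtain ⟨q, hq⟩ := exists_prime_orderOf_dvd_card' 3
      (Sylow.prime_dvd_card_quotient_normalizer (p := 3) (n := 7) hdvd hc0)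
    obtain ⟨⟨f, hf⟩, rfl⟩ := QuotientGroup.mk_surjective q
    have hf3 : f ^ 3 ∈ P0 := by
      have h := pow_orderOf_eq_one (QuotientGroup.mk (⟨f, hf⟩ : normalizer (P0 : Set G)) :
        normalizer (P0 : Set G) ⧸ P0.comap (normalizer (P0 : Set G)).subtype)
      rw [hq, ← QuotientGroup.mk_pow, QuotientGroup.eq_one_iff] at h
      exact h
    have hfnot : f ∉ P0 := fun h => by
      have e : (QuotientGroup.mk (⟨f, hf⟩ : normalizer (P0 : Set G)) :
        normalizer (P0 : Set G) ⧸ P0.comap (normalizer (P0 : Set G)).subtype) = 1 :=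
        (QuotientGroup.eq_one_iff _).2 h
      rw [e, orderOf_one] at hq
      norm_num at hq
    have hpg : IsPGroup 3 P0 := IsPGroup.of_card hc0
    obtain ⟨k, hk⟩ := hpg ⟨_, hf3⟩
    have hfk : f ^ 3 ^ (k + 1) = 1 := by
      rw [pow_succ', pow_mul]; exact congrArg Subtype.val hk
    have hfy := F.norm_three hc0 hpre0 hcy hfk hf
    -- the element and the subgroup form a larger three-group in the normalizer
    have hfN : f ∈ N := hcomm_le f hfy
    have hz : IsPGroup 3 (zpowers f) := by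
      rintro ⟨_, i, rfl⟩
      exact ⟨k + 1, Subtype.ext (show (f ^ i) ^ 3 ^ (k + 1) = 1 by
        rw [← zpow_natCast, ← zpow_mul, mul_comm, zpow_mul, zpow_natCast, hfk, one_zpow])⟩
    have hbig := (hz.to_sup_of_normal_right' hpg (zpowers_le.2 hf))
    have hle : P0 ≤ N := map_subtype_le _
    have hbN : zpowers f ⊔ P0 ≤ N := sup_le (zpowers_le.2 hfN) hle
    have heq := P1.3 (hbig.of_equiv (subgroupOfEquivOfLe hbN).symm)
      (fun p hp => mem_sup_right (show (p : G) ∈ P0 from ⟨p, hp, rfl⟩))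
    refine hfnot ?_
    have : (⟨f, hfN⟩ : N) ∈ (zpowers f ⊔ P0).subgroupOf N := mem_sup_left (mem_zpowers _)
    rw [heq] at this
    exact ⟨_, this, rfl⟩
  have hnotdvd : ∀ {Q : Subgroup G}, Nat.card Q = 3 ^ 7 → ¬ 3 ∣ Q.index := fun {Q} hQ h => hSyl (by
    rw [← card_mul_index Q, hQ, pow_succ]
    exact mul_dvd_mul_left _ h)
  refine ⟨hnotdvd (by rw [card_map_of_injective (subtype_injective _), P.card_eq_multiplicity, hfac]), ?_⟩
  obtain ⟨c, hc⟩ := MulAction.exists_smul_eq N P1 P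
  set e := (MulAut.conj (c : G)).toMonoidHom with he
  have hA : F.A.map e ≤ (P : Subgroup N).map N.subtype := by
    rintro _ ⟨a, ha, rfl⟩
    have ha1 : (⟨a, hpre (F.A_le_pre ha)⟩ : N) ∈ (P1 : Subgroup N) := hP1 (F.A_le_pre ha)
    refine ⟨MulAut.conj c ⟨a, hpre (F.A_le_pre ha)⟩, ?_, rfl⟩
    rw [← hc, SetLike.mem_coe, Sylow.coe_subgroup_smul]
    exact smul_mem_pointwise_smul _ _ _ ha1
  have hinj : Function.Injective e := (MulAut.conj (c : G)).injective
  refine ⟨F.A.map e, hA, ⟨⟨⟨?_⟩⟩, ?_⟩, by rw [card_map_of_injective hinj, F.card_A],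
    map_centralizer_conj F.centralizer_A _, inferInstance, ?_⟩
  · rintro ⟨_, a, ha, rfl⟩ ⟨_, b, hb, rfl⟩
    exact Subtype.ext ((F.A_comm ha hb).map e).eq
  · rintro _ ⟨a, ha, rfl⟩
    rw [← map_pow, F.A_cube ha, map_one]
  · obtain ⟨i11⟩ := F.iso_M11
    let ε : ↥F.NA ≃* ↥(normalizer ((F.A.map e : Subgroup G) : Set G)) :=
      ((F.NA).equivMapOfInjective e hinj).trans (MulEquiv.subgroupCongr (map_normalizer_conj F.A _))
    have hε : ∀ w : F.NA, (ε w : G) = e w := fun w => rfl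
    refine ⟨(QuotientGroup.congr (F.A.subgroupOf F.NA)
      ((F.A.map e).subgroupOf (normalizer ((F.A.map e : Subgroup G) : Set G))) ε ?_).symm.trans i11⟩
    ext w
    simp only [mem_map, mem_subgroupOf]
    constructor
    · rintro ⟨v, hv, rfl⟩
      exact ⟨v, hv, (hε v).symm⟩
    · rintro ⟨a, ha, hw⟩
      refine ⟨⟨a, le_normalizer ha⟩, ha, Subtype.ext ?_⟩
      exact (hε _).trans hw

end Cfsg.Lib.Extra.SuzFive
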