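import Cfsg.Agent.Lib.Extra.SuzFive.Torus
import Mathlib.LinearAlgebra.Matrix.GeneralLinearGroup.Defs

/-!
# The part of the normalizer of the group of order 243 centralizing `z`
-/

set_option autoImplicit false
set_option maxRecDepth 10000
set_option linter.style.haveILetI false
set_option linter.unusedSectionVars false

namespace Cfsg.Lib.Extra.SuzFive

open Cfsg Module Cfsg.Lib.Linear Cfsg.Lib.Linear.Orth Cfsg.Lib.Extra.Wide Cfsg.Lib.Extra.SuzLocal
open Cfsg.Lib.Extra.SuzThree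
open Cfsg.Lib.UFourThreeLocal (Loc Axis mulH conjH invH okH pow3 commH elts elts_spec mem_elts tCodes)
open Subgroup
open scoped Matrix

attribute [local irreducible] Cfsg.Lib.UFourThreeLocal.elts mulH conjH invH okH pow3 commH

/-- The matrices of the eight representatives. -/
def repMat (a b c : Fin 2) : Matrix (Fin 2) (Fin 2) (ZMod 3) :=
  (-1) ^ (a : ℕ) * !![1, 0; 0, -1] ^ (b : ℕ) * !![0, -1; 1, 0] ^ (c : ℕ)

theorem repMat_inj : ∀ a b c a' b' c', repMat a b c = repMat a' b' c' → (a, b, c) = (a', b', c') := by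
  decide +kernel

theorem repMat_one : repMat 0 0 0 = 1 := by decide +kernel

/-- The code of a representative. -/
def repCode (a b c : ℕ) : ℕ := mulH (mulH (4 * a) (576 * b)) (1152 * c)

theorem norm_check : (elts.all fun h => !(tCodes.elem (conjH h 192) && tCodes.elem (conjH h 8)) ||
    (List.range 2).any fun a => (List.range 2).any fun b => (List.range 2).any fun c =>
      tCodes.any fun t => Nat.beq (mulH (repCode a b c) t) h) = true := by
  with_unfolding_all decide +kernel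

theorem odd_check : (elts.all fun h => !(Nat.beq (conjH h 192) 384 && Nat.beq (conjH h 8) 8)) = true := by
  with_unfolding_all decide +kernel

theorem rep_ok : ((List.range 2).all fun a => (List.range 2).all fun b => (List.range 2).all fun c =>
    okH (4 * a) && okH (576 * b) && okH (1152 * c)) = true := by
  with_unfolding_all decide +kernel

variable {G : Type*} [Group G] {ι : Type} [Fintype ι] [DecidableEq ι] {D : Data G ι} [Finite G]

namespace Ax

variable {T : Tri D} (F : Ax T)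

/-- The normalizer of the group of order 243 in the centralizer of `z`. -/
def K : Subgroup G := normalizer (F.A : Set G) ⊓ centralizer ({D.z} : Set G)

theorem K_conj {g a : G} (hg : g ∈ F.K) (ha : a ∈ F.A) : g * a * g⁻¹ ∈ F.A :=
  (mem_normalizer_iff.1 hg.1 a).1 ha

theorem K_z {g : G} (hg : g ∈ F.K) : Commute g D.z := mem_centralizer_singleton_iff.1 hg.2

theorem tz_le_K : tz (T := T) ≤ F.K := fun g hg =>
  ⟨le_normalizer (F.tz_le hg).1, (F.tz_le hg).2⟩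

theorem K_tz {g t : G} (hg : g ∈ F.K) (ht : t ∈ tz (T := T)) : g * t * g⁻¹ ∈ tz (T := T) :=
  F.cent_z_mem (F.K_conj hg (F.tz_le ht).1)
    (((F.K_z hg).mul_left (tz_z ht)).mul_left (F.K_z hg).inv_left)

theorem K_W {g w : G} (hg : g ∈ F.K) (hw : w ∈ F.A) (hi : D.z * w * D.z⁻¹ = w⁻¹) :
    g * w * g⁻¹ ∈ F.W := by
  refine F.inverted_mem_W (F.K_conj hg hw) ?_
  rw [show D.z * (g * w * g⁻¹) * D.z⁻¹ = (D.z * g) * w * (D.z * g)⁻¹ by group, ← (F.K_z hg).eq,
    show g * D.z * w * (g * D.z)⁻¹ = g * (D.z * w * D.z⁻¹) * g⁻¹ by group, hi]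
  group

/-- An element centralizing `z` and normalizing the group of order 27 normalizes that of order 243. -/
theorem mem_K {c : G} (hc : Commute c D.z) (h : ∀ t ∈ tz (T := T), c * t * c⁻¹ ∈ tz (T := T)) : c ∈ F.K := by
  refine ⟨mem_normalizer_fintype fun a ha => ?_, mem_centralizer_singleton_iff.2 hc.eq⟩
  show c * a * c⁻¹ ∈ F.A
  set w := c * a * c⁻¹ with hw
  have hcomm : ∀ t ∈ tz (T := T), Commute w t := fun t ht => by
    have ht' : c⁻¹ * t * c ∈ tz (T := T) := by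
      have := (mem_normalizer_iff.1 (inv_mem (mem_normalizer_fintype h : c ∈ normalizer (tz (T := T) : Set G))) t).1 ht
      rwa [inv_inv] at this
    have := (Commute.conj_iff c).2 (F.A_comm ha (F.tz_le ht').1)
    rwa [show c * (c⁻¹ * t * c) * c⁻¹ = t by group] at this
  have hwy : Commute w T.y0 := hcomm _ (subset_closure (by simp))
  have B := F.L.base_vertex (x := 200) (by simp)
  have htS : ∀ s ∈ F.L.tSub, Commute (cmk hwy) s := fun s hs => by
    have hmem : s ∈ F.L.ySub := B.T_le hs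
    obtain ⟨g, hg, rfl⟩ := cmk_surj s
    have hgA : g ∈ F.A := F.mem_A.2 ⟨hg, hmem⟩
    obtain ⟨t, ht, k, n, rfl⟩ := F.decomp hgA
    obtain ⟨hty, -⟩ := F.mem_A.1 (F.tz_le ht).1
    have hw' : F.u ^ k * F.u2 ^ n ∈ F.A := mul_mem (pow_mem F.u_mem k) (pow_mem F.u2_mem n)
    have hu : Commute (F.u ^ k * F.u2 ^ n) T.y0 := F.A_y0 hw'
    have hone : F.u ^ k * F.u2 ^ n = 1 := by
      have e : Commute (cmk hu) T.zbar := by
        have h1 : Commute (cmk hty) T.zbar := cmk_comm (tz_z ht)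
        have h2 : Commute (cmk hty * cmk hu) T.zbar := F.L.tSub_comm_z hs
        have := h1.inv_left.mul_left h2
        rwa [inv_mul_cancel_left] at this
      have huz : Commute (F.u ^ k * F.u2 ^ n) D.z := cmk_commute T.order_y0 odd_three hu T.z0.symm D.ctx.sq_z e
      have h3 := F.cent_z_mem hw' huz
      have hi : D.z * (F.u ^ k * F.u2 ^ n) * D.z⁻¹ = (F.u ^ k * F.u2 ^ n)⁻¹ := by
        rw [show D.z * (F.u ^ k * F.u2 ^ n) * D.z⁻¹ = (D.z * F.u ^ k * D.z⁻¹) * (D.z * F.u2 ^ n * D.z⁻¹) by group,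
          ← conj_pow, ← conj_pow, F.u_inv, F.u2_inv, inv_pow, inv_pow, mul_inv_rev]
        exact ((F.A_comm F.u_mem F.u2_mem).pow_pow k n).inv_inv.eq
      rw [← huz.eq, mul_inv_cancel_right] at hi
      exact orderOf_eq_one_iff.1 (Nat.eq_one_of_dvd_coprimes (by norm_num : Nat.Coprime 2 3)
        (orderOf_dvd_of_pow_eq_one (by rw [pow_two]; exact eq_inv_iff_mul_eq_one.1 hi))
        (orderOf_dvd_of_pow_eq_one (F.A_cube hw')))
    exact cmk_comm (by rw [hone, mul_one]; exact hcomm t ht)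
  rcases B.cover (cmk hwy) htS with h1 | h1
  · exact F.mem_A.2 ⟨hwy, h1⟩
  · exfalso
    have hwzA : w * D.z ∈ F.A := F.mem_A.2 ⟨hwy.mul_left T.z0.symm, h1⟩
    have hw3 : w ^ 3 = 1 := by rw [hw, conj_pow, F.A_cube ha]; group
    set a' := w * D.z with ha'
    have hzA : D.z * a' * D.z⁻¹ ∈ F.A := by
      obtain ⟨t, ht, k, n, e⟩ := F.decomp hwzA
      rw [e, show D.z * (t * (F.u ^ k * F.u2 ^ n)) * D.z⁻¹ =
        D.z * t * D.z⁻¹ * ((D.z * F.u ^ k * D.z⁻¹) * (D.z * F.u2 ^ n * D.z⁻¹)) by group, ← conj_pow, ← conj_pow,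
        F.u_inv, F.u2_inv, ← (tz_z ht).eq, mul_inv_cancel_right]
      exact mul_mem (F.tz_le ht).1 (mul_mem (pow_mem (inv_mem F.u_mem) k) (pow_mem (inv_mem F.u2_mem) n))
    have hzz : D.z⁻¹ = D.z := inv_eq_of_mul_eq_one_right D.ctx.sq_z
    have e : a' * (D.z * a' * D.z⁻¹) * a' * D.z = w ^ 3 := by
      rw [hzz, ha', pow_succ, pow_two]
      simp only [mul_assoc, D.ctx.sq_z, mul_one]
      simp only [← mul_assoc, D.ctx.sq_z, one_mul]
    rw [hw3] at e
    have hzmem : D.z ∈ F.A := by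
      rw [show D.z = (a' * (D.z * a' * D.z⁻¹) * a')⁻¹ from eq_inv_of_mul_eq_one_right e]
      exact inv_mem (mul_mem (mul_mem hwzA hzA) hwzA)
    have h := F.A_cube hzmem
    rw [z_cube] at h
    exact D.ctx.ne_one h

theorem z_mem_K : D.z ∈ F.K :=
  F.mem_K (Commute.refl _) fun t ht => by rwa [← (tz_z ht).eq, mul_inv_cancel_right]

theorem σ_y1 : F.σ * T.y1 * F.σ⁻¹ = F.b := by
  refine T.low_ext (T.low_conj F.σ_y0 F.σ_z T.y1_low) F.b_low ?_
  show cmk F.σ_y0 * cmk T.c01.symm * (cmk F.σ_y0)⁻¹ = cmk F.b_y0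
  rw [F.eσ, ← F.e1, ← F.e2]
  exact F.axis.swap_facts.1

theorem σ_b : F.σ * F.b * F.σ⁻¹ = T.y1 := by
  refine T.low_ext (T.low_conj F.σ_y0 F.σ_z F.b_low) T.y1_low ?_
  show cmk F.σ_y0 * cmk F.b_y0 * (cmk F.σ_y0)⁻¹ = cmk T.c01.symm
  rw [F.eσ, ← F.e1, ← F.e2]
  exact F.axis.swap_facts.2.1

theorem mem_K_gens {c : G} (hc : Commute c D.z) (h0 : c * T.y0 * c⁻¹ ∈ tz (T := T))
    (h1 : c * T.y1 * c⁻¹ ∈ tz (T := T)) (h2 : c * T.y2 * c⁻¹ ∈ tz (T := T)) : c ∈ F.K := by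
  refine F.mem_K hc fun t ht => ?_
  have hle : tz (T := T) ≤ (tz (T := T)).comap (MulAut.conj c).toMonoidHom := (closure_le _).2 fun g hg => by
    rcases hg with rfl | rfl | rfl
    exacts [h0, h1, h2]
  exact hle ht

theorem b_tz : F.b ∈ tz (T := T) := by
  rcases F.hb with e | e <;> rw [e]
  exacts [subset_closure (by simp), inv_mem (subset_closure (by simp))]

theorem y2_eq : T.y2 = F.b ∨ T.y2 = F.b⁻¹ := by
  rcases F.hb with e | e
  · exact Or.inl e.symm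
  · exact Or.inr (by rw [e, inv_inv])

theorem σ_mem_K : F.σ ∈ F.K := by
  refine F.mem_K_gens F.σ_z ?_ (F.σ_y1 ▸ F.b_tz) ?_
  · rw [F.σ_y0.eq, mul_inv_cancel_right]; exact subset_closure (by simp)
  · rcases F.y2_eq with e | e <;> rw [e]
    · rw [F.σ_b]; exact subset_closure (by simp)
    · rw [← conj_inv, F.σ_b]; exact inv_mem (subset_closure (by simp))

theorem μ_conj : F.μ * T.y0 * F.μ⁻¹ = T.y0 ∧ F.μ * T.y1 * F.μ⁻¹ = T.y1⁻¹ ∧ F.μ * T.y2 * F.μ⁻¹ = T.y2⁻¹ := by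
  have hb : F.μ * F.b * F.μ⁻¹ = F.b⁻¹ := by
    refine T.low_ext (T.low_conj F.μ_y0 F.μ_z F.b_low) (inv_mem F.b_low) ?_
    show cmk F.μ_y0 * cmk F.b_y0 * (cmk F.μ_y0)⁻¹ = (cmk F.b_y0)⁻¹
    obtain ⟨-, -, o8, o16, o1152, -, m2, -, j2, -, -⟩ := codes_three
    rw [F.eμ, ← F.e2, F.L.conj_eq o1152 o8 j2]
    exact (inv_eq_of_mul_eq_one_right (by rw [F.L.mul_eq o8 o16 m2, F.L.psi_zero])).symm
  refine ⟨by rw [F.μ_y0.eq, mul_inv_cancel_right], ?_, ?_⟩
  · refine T.low_ext (T.low_conj F.μ_y0 F.μ_z T.y1_low) (inv_mem T.y1_low) ?_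
    show cmk F.μ_y0 * cmk T.c01.symm * (cmk F.μ_y0)⁻¹ = (cmk T.c01.symm)⁻¹
    obtain ⟨o192, o384, -, -, o1152, m1, -, j1, -, -, -⟩ := codes_three
    rw [F.eμ, ← F.e1, F.L.conj_eq o1152 o192 j1]
    exact (inv_eq_of_mul_eq_one_right (by rw [F.L.mul_eq o192 o384 m1, F.L.psi_zero])).symm
  · rcases F.y2_eq with e | e <;> rw [e]
    · exact hb
    · rw [← conj_inv, hb]

theorem μ_mem_K : F.μ ∈ F.K := by
  obtain ⟨e0, e1, e2⟩ := F.μ_conj
  refine F.mem_K_gens F.μ_z ?_ ?_ ?_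
  · rw [e0]; exact subset_closure (by simp)
  · rw [e1]; exact inv_mem (subset_closure (by simp))
  · rw [e2]; exact inv_mem (subset_closure (by simp))

theorem μ_u2 : F.μ * F.u2 * F.μ⁻¹ = F.u⁻¹ := by
  refine T.inverted_ext ((F.μ_y0.mul_left F.u2_y0).mul_left F.μ_y0.inv_left) F.u_y0.inv_left ?_ ?_ ?_
  · rw [show D.z * (F.μ * F.u2 * F.μ⁻¹) * D.z⁻¹ = (D.z * F.μ) * F.u2 * (D.z * F.μ)⁻¹ by group, ← F.μ_z.eq,
      show F.μ * D.z * F.u2 * (F.μ * D.z)⁻¹ = F.μ * (D.z * F.u2 * D.z⁻¹) * F.μ⁻¹ by group, F.u2_inv]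
    group
  · rw [← conj_inv, F.u_inv]
  · show cmk F.μ_y0 * cmk F.u2_y0 * (cmk F.μ_y0)⁻¹ = (cmk F.u_y0)⁻¹
    rw [F.eμ, F.eu, F.eu2]
    exact F.axis.two_m

/-- The element of a vector. -/
def vecHom : Multiplicative (Fin 2 → ZMod 3) →* G where
  toFun v := F.u ^ (Multiplicative.toAdd v 0).val * F.u2 ^ (Multiplicative.toAdd v 1).val
  map_one' := by simp
  map_mul' a b := by
    simp only [toAdd_mul, Pi.add_apply]
    rw [ZMod.val_add, ZMod.val_add, ← pow_eq_pow_mod _ F.u_cube, ← pow_eq_pow_mod _ F.u2_cube, pow_add, pow_add,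
      ((F.A_comm F.u2_mem F.u_mem).pow_pow _ _).mul_mul_mul_comm]

theorem vecHom_apply (v : Fin 2 → ZMod 3) :
    F.vecHom (Multiplicative.ofAdd v) = F.u ^ (v 0).val * F.u2 ^ (v 1).val := rfl

theorem vecHom_inj : Function.Injective F.vecHom := (injective_iff_map_eq_one _).2 fun v h => by
  obtain ⟨v, rfl⟩ := Multiplicative.ofAdd.surjective v
  rw [vecHom_apply] at h
  have hy : Commute (F.u ^ (v 0).val * F.u2 ^ (v 1).val) T.y0 :=
    (F.u_y0.pow_left _).mul_left (F.u2_y0.pow_left _)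
  have e : cmk hy = 1 := (cmk_one _).2 ⟨0, by rw [h, zpow_zero]⟩
  rw [← cmk_mul (F.u_y0.pow_left _) (F.u2_y0.pow_left _), ← cmk_pow F.u_y0, ← cmk_pow F.u2_y0, F.eu, F.eu2] at e
  obtain ⟨h0, h1⟩ := F.axis.two_pow_one (ZMod.val_lt _) (ZMod.val_lt _) e
  refine ofAdd_eq_one.2 (funext fun i => ?_)
  fin_cases i
  · exact (ZMod.val_eq_zero _).1 h0
  · exact (ZMod.val_eq_zero _).1 h1

theorem vecHom_range : F.vecHom.range = F.W := by
  refine le_antisymm ?_ ((closure_le _).2 ?_)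
  · rintro _ ⟨v, rfl⟩
    exact mul_mem (pow_mem (subset_closure (by simp)) _) (pow_mem (subset_closure (by simp)) _)
  · rintro g (rfl | rfl)
    · exact ⟨Multiplicative.ofAdd ![1, 0], by simp [vecHom_apply, ZMod.val_one]⟩
    · exact ⟨Multiplicative.ofAdd ![0, 1], by simp [vecHom_apply, ZMod.val_one]⟩

theorem W_inv {w : G} (hw : w ∈ F.W) : D.z * w * D.z⁻¹ = w⁻¹ := by
  rw [← F.vecHom_range] at hw
  obtain ⟨v, rfl⟩ := hw
  obtain ⟨v, rfl⟩ := Multiplicative.ofAdd.surjective v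
  rw [vecHom_apply, show D.z * (F.u ^ (v 0).val * F.u2 ^ (v 1).val) * D.z⁻¹ =
    (D.z * F.u ^ (v 0).val * D.z⁻¹) * (D.z * F.u2 ^ (v 1).val * D.z⁻¹) by group, ← conj_pow, ← conj_pow,
    F.u_inv, F.u2_inv, inv_pow, inv_pow, mul_inv_rev]
  exact ((F.A_comm F.u_mem F.u2_mem).pow_pow _ _).inv_inv.eq

theorem exists_image (g : F.K) (v : Fin 2 → ZMod 3) :
    ∃ v', F.vecHom (Multiplicative.ofAdd v') = g * F.vecHom (Multiplicative.ofAdd v) * (g : G)⁻¹ := by
  have hv : F.vecHom (Multiplicative.ofAdd v) ∈ F.W := F.vecHom_range ▸ ⟨_, rfl⟩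
  have h := F.K_W g.2 (F.W_le hv) (F.W_inv hv)
  rw [← F.vecHom_range] at h
  obtain ⟨v', hv'⟩ := h
  exact ⟨Multiplicative.toAdd v', hv'⟩

/-- The linear map of an element. -/
noncomputable def lin (g : F.K) : (Fin 2 → ZMod 3) →ₗ[ZMod 3] (Fin 2 → ZMod 3) :=
  AddMonoidHom.toZModLinearMap 3
    (AddMonoidHom.mk' (fun v => (F.exists_image g v).choose) fun a b =>
      Multiplicative.ofAdd.injective (F.vecHom_inj (by
        rw [(F.exists_image g (a + b)).choose_spec, ofAdd_add, map_mul, ofAdd_add, map_mul,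
          (F.exists_image g a).choose_spec, (F.exists_image g b).choose_spec]
        group)))

theorem lin_spec (g : F.K) (v : Fin 2 → ZMod 3) :
    F.vecHom (Multiplicative.ofAdd (F.lin g v)) = g * F.vecHom (Multiplicative.ofAdd v) * (g : G)⁻¹ :=
  (F.exists_image g v).choose_spec

theorem lin_eq {g : F.K} {v v' : Fin 2 → ZMod 3}
    (h : (g : G) * F.vecHom (Multiplicative.ofAdd v) * (g : G)⁻¹ = F.vecHom (Multiplicative.ofAdd v')) :
    F.lin g v = v' :=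
  Multiplicative.ofAdd.injective (F.vecHom_inj ((F.lin_spec g v).trans h))

/-- The matrices of the elements. -/
noncomputable def matHom : F.K →* Matrix (Fin 2) (Fin 2) (ZMod 3) where
  toFun g := LinearMap.toMatrix' (F.lin g)
  map_one' := by
    rw [← LinearMap.toMatrix'_id]
    exact congrArg _ (LinearMap.ext fun v => F.lin_eq (by simp))
  map_mul' a b := by
    rw [← LinearMap.toMatrix'_comp]
    exact congrArg _ (LinearMap.ext fun v => F.lin_eq (by
      rw [LinearMap.comp_apply, F.lin_spec, F.lin_spec, Subgroup.coe_mul]; group))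

theorem matHom_apply (g : F.K) : F.matHom g = LinearMap.toMatrix' (F.lin g) := rfl

/-- The action on the inverted part. -/
noncomputable def glHom : F.K →* GL (Fin 2) (ZMod 3) := F.matHom.toHomUnits

theorem glHom_val (g : F.K) : (F.glHom g).val = F.matHom g := rfl

theorem mat_eq {g : F.K} {M : Matrix (Fin 2) (Fin 2) (ZMod 3)}
    (h0 : (g : G) * F.u * (g : G)⁻¹ = F.u ^ (M 0 0).val * F.u2 ^ (M 1 0).val)
    (h1 : (g : G) * F.u2 * (g : G)⁻¹ = F.u ^ (M 0 1).val * F.u2 ^ (M 1 1).val) : F.matHom g = M := by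
  ext i j
  rw [matHom_apply, LinearMap.toMatrix'_apply]
  have e : F.lin g (Pi.single j 1) = fun i => M i j := by
    refine F.lin_eq ?_
    fin_cases j <;> simp only [vecHom_apply]
    · simpa [ZMod.val_one] using h0
    · simpa [ZMod.val_one] using h1
  rw [e]

theorem mat_z : F.matHom ⟨D.z, F.z_mem_K⟩ = -1 := by
  refine F.mat_eq ?_ ?_ <;> simp only [F.u_inv, F.u2_inv]
  · exact inv_eq_of_mul_eq_one_right (by
      rw [show ((-1 : Matrix (Fin 2) (Fin 2) (ZMod 3)) 0 0).val = 2 from by decide,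
        show ((-1 : Matrix (Fin 2) (Fin 2) (ZMod 3)) 1 0).val = 0 from by decide, pow_zero, mul_one, ← pow_succ',
        F.u_cube])
  · exact inv_eq_of_mul_eq_one_right (by
      rw [show ((-1 : Matrix (Fin 2) (Fin 2) (ZMod 3)) 0 1).val = 0 from by decide,
        show ((-1 : Matrix (Fin 2) (Fin 2) (ZMod 3)) 1 1).val = 2 from by decide, pow_zero, one_mul, ← pow_succ',
        F.u2_cube])

theorem mat_σ : F.matHom ⟨F.σ, F.σ_mem_K⟩ = !![1, 0; 0, -1] := by
  refine F.mat_eq ?_ ?_ <;> simp only [F.σ_u, F.σ_u2]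
  · simp [ZMod.val_one]
  · rw [show ((!![1, 0; 0, -1] : Matrix (Fin 2) (Fin 2) (ZMod 3)) 0 1).val = 0 from by decide,
      show ((!![1, 0; 0, -1] : Matrix (Fin 2) (Fin 2) (ZMod 3)) 1 1).val = 2 from by decide, pow_zero, one_mul]
    exact inv_eq_of_mul_eq_one_right (by rw [← pow_succ', F.u2_cube])

theorem mat_μ : F.matHom ⟨F.μ, F.μ_mem_K⟩ = !![0, -1; 1, 0] := by
  refine F.mat_eq ?_ ?_ <;> simp only [F.μ_u2]
  · simp [ZMod.val_one, u2]
  · rw [show ((!![0, -1; 1, 0] : Matrix (Fin 2) (Fin 2) (ZMod 3)) 0 1).val = 2 from by decide,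
      show ((!![0, -1; 1, 0] : Matrix (Fin 2) (Fin 2) (ZMod 3)) 1 1).val = 0 from by decide, pow_zero, mul_one]
    exact inv_eq_of_mul_eq_one_right (by rw [← pow_succ', F.u_cube])

/-- The eight representatives. -/
def rep (p : Fin 2 × Fin 2 × Fin 2) : F.K :=
  ⟨D.z, F.z_mem_K⟩ ^ (p.1 : ℕ) * ⟨F.σ, F.σ_mem_K⟩ ^ (p.2.1 : ℕ) * ⟨F.μ, F.μ_mem_K⟩ ^ (p.2.2 : ℕ)

theorem rep_mat (p : Fin 2 × Fin 2 × Fin 2) : F.matHom (F.rep p) = repMat p.1 p.2.1 p.2.2 := by
  rw [rep, map_mul, map_mul, map_pow, map_pow, map_pow, F.mat_z, F.mat_σ, F.mat_μ]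
  rfl

theorem rep_y0 (p : Fin 2 × Fin 2 × Fin 2) : Commute ((F.rep p : F.K) : G) T.y0 := by
  simp only [rep, Subgroup.coe_mul, SubmonoidClass.coe_pow]
  exact ((T.z0.symm.pow_left _).mul_left (F.σ_y0.pow_left _)).mul_left (F.μ_y0.pow_left _)

theorem rep_psi {a b c : Fin 2} :
    cmk (F.rep_y0 (a, b, c)) = F.L.ψ (repCode a b c) ∧ okH (repCode a b c) = true := by
  have k := rep_ok
  simp only [List.all_eq_true, List.mem_range, Bool.and_eq_true] at k
  obtain ⟨⟨oa, ob⟩, oc⟩ := k a a.2 b b.2 c c.2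
  refine ⟨?_, F.L.ok (F.L.ok oa ob) oc⟩
  unfold repCode
  rw [F.L.mul (F.L.ok oa ob) oc, F.L.mul oa ob]
  have e : ∀ {g : G} (hg : Commute g T.y0) (n : ℕ) (h : ℕ), n < 2 → cmk hg = F.L.ψ h →
      cmk (hg.pow_left n) = F.L.ψ (h * n) := fun {g} hg n h hn eg => by
    interval_cases n
    · rw [Nat.mul_zero, F.L.psi_zero]; exact (cmk_one _).2 ⟨0, by rw [pow_zero, zpow_zero]⟩
    · rw [Nat.mul_one, ← eg]; exact cmk_congr (pow_one g)
  rw [← e T.z0.symm a 4 a.2 F.L.z_eq.symm, ← e F.σ_y0 b 576 b.2 F.eσ, ← e F.μ_y0 c 1152 c.2 F.eμ, cmk_mul, cmk_mul]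
  exact cmk_congr rfl

theorem kern_y0 {k : F.K} (hk : F.matHom k = 1) (hy : Commute (k : G) T.y0) : (k : G) ∈ tz (T := T) := by
  have hz := F.K_z k.2
  have hcz : Commute (cmk hy) T.zbar := cmk_comm (hb := T.z0.symm) hz
  have oh := F.L.code_ok hcz
  have B := F.L.base_vertex (x := 200) (by simp)
  have hmemT : ∀ {t : G}, t ∈ tz (T := T) → ∀ (ht : Commute t T.y0), cmk ht ∈ F.L.tSub := fun {t} ht hty => by
    obtain ⟨_, hY⟩ := F.mem_A.1 (F.tz_le ht).1
    refine (B.mem_T _).2 ⟨?_, ((B.mem_Y _).1 hY).2 _ (B.d_mem F.L.d_cube), cmk_comm (hb := T.z0.symm) (tz_z ht)⟩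
    rw [cmk_pow]
    exact (cmk_one _).2 ⟨0, by rw [F.A_cube (F.tz_le ht).1, zpow_zero]⟩
  obtain ⟨o192, -, o8, -, -, -, -, -, -, -, -⟩ := codes_three
  have hin : ∀ {h : ℕ} {t : G} (ht : t ∈ tz (T := T)) (hty : Commute t T.y0), okH h = true →
      F.L.ψ h = cmk hty → tCodes.elem (conjH (F.L.code hcz) h) = true := fun {h t} ht hty oh' e => by
    obtain ⟨h', hh', e'⟩ := F.L.mem_tSub.1 (hmemT (F.K_tz k.2 ht) ((hy.mul_left hty).mul_left hy.inv_left))
    have : conjH (F.L.code hcz) h = h' := F.L.inj (F.L.conj oh oh').1 (Loc.tCodes_ok hh') (by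
      rw [(F.L.conj oh oh').2, F.L.psi_code, e', e]; rfl)
    rw [this]
    simpa using hh'
  have kk := elts_spec norm_check oh
  simp only [hin (subset_closure (by simp)) T.c01.symm o192 F.e1, hin F.b_tz F.b_y0 o8 F.e2, Bool.and_self,
    Bool.not_true, Bool.false_or, List.any_eq_true, List.mem_range, Nat.beq_eq] at kk
  obtain ⟨a, ha, b, hb, c, hc, t, ht, e⟩ := kk
  obtain ⟨er, ok⟩ := F.rep_psi (a := ⟨a, ha⟩) (b := ⟨b, hb⟩) (c := ⟨c, hc⟩)
  set r := F.rep (⟨a, ha⟩, ⟨b, hb⟩, ⟨c, hc⟩) with hr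
  set q := ((r : F.K) : G)⁻¹ * k with hq
  have hqy : Commute q T.y0 := (F.rep_y0 _).inv_left.mul_left hy
  have hqA : q ∈ F.A := F.mem_A.2 ⟨hqy, B.T_le (by
    rw [show cmk hqy = (cmk (F.rep_y0 (⟨a, ha⟩, ⟨b, hb⟩, ⟨c, hc⟩)))⁻¹ * cmk hy from rfl, er, ← F.L.psi_code hcz, ← e,
      F.L.mul ok (Loc.tCodes_ok ht), inv_mul_cancel_left]
    exact F.L.psi_mem_tSub ht)⟩
  have hqT : q ∈ tz (T := T) := F.cent_z_mem hqA ((F.K_z r.2).inv_left.mul_left hz)
  have hqK : q ∈ F.K := F.tz_le_K hqT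
  have h1 : F.matHom ⟨q, hqK⟩ = 1 := by
    refine F.mat_eq ?_ ?_
    · rw [(F.A_comm (F.tz_le hqT).1 F.u_mem).eq, mul_inv_cancel_right]; simp [ZMod.val_one]
    · rw [(F.A_comm (F.tz_le hqT).1 F.u2_mem).eq, mul_inv_cancel_right]; simp [ZMod.val_one]
  have e2 : k = r * ⟨q, hqK⟩ := Subtype.ext (mul_inv_cancel_left ((r : F.K) : G) (k : G)).symm
  rw [e2, map_mul, h1, mul_one, hr, F.rep_mat, ← repMat_one] at hk
  have hr1 : r = F.rep (0, 0, 0) := by rw [hr, repMat_inj _ _ _ _ _ _ hk]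
  have : ((r : F.K) : G) = 1 := by rw [hr1]; simp [rep]
  rw [e2, Subgroup.coe_mul, this, one_mul]
  exact hqT

end Ax

end Cfsg.Lib.Extra.SuzFive
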