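import Cfsg.Agent.Lib.Extra.SuzFive.ASub
import Cfsg.Agent.Lib.UFourThreeRecog.Normal
import Cfsg.Agent.Lib.Extra.SuzThree.Split

/-!
# A Sylow three-subgroup of the normalizer of the first element is one of the group
-/

set_option autoImplicit false
set_option maxRecDepth 10000
set_option linter.style.haveILetI false
set_option linter.unusedSectionVars false

namespace Cfsg.Lib.Extra.SuzFive

open Cfsg Module Cfsg.Lib.Linear Cfsg.Lib.Linear.Orth Cfsg.Lib.Extra.Wide Cfsg.Lib.Extra.SuzLocal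
open Cfsg.Lib.Extra.SuzThree
open Cfsg.Lib.UFourThreeLocal (Loc Axis mulH conjH invH okH pow3 commH elts elts_spec mem_elts tCodes)
open Subgroup

attribute [local irreducible] Cfsg.Lib.UFourThreeLocal.elts mulH conjH invH okH pow3 commH

variable {G : Type*} [Group G]

theorem three_comm {g y : G} {k : ℕ} (hg : g ^ 3 ^ k = 1) (h : g * y * g⁻¹ = y ∨ g * y * g⁻¹ = y⁻¹) :
    Commute g y := by
  have h2 : Commute (g ^ 2) y := by
    refine mul_inv_eq_iff_eq_mul.1 ?_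
    rw [pow_two, show g * g * y * (g * g)⁻¹ = g * (g * y * g⁻¹) * g⁻¹ by group]
    rcases h with e | e <;> rw [e]
    · exact e
    · rw [← conj_inv, e, inv_inv]
  obtain ⟨m, hm⟩ : ∃ m, 3 ^ k = 2 * m + 1 := (Odd.pow (by decide : Odd 3))
  have e : g = g ^ (2 * (m + 1)) := by rw [show 2 * (m + 1) = 3 ^ k + 1 by omega, pow_succ, hg, one_mul]
  rw [e, pow_mul]
  exact h2.pow_left _

theorem exists_fixed [Finite G] {f : G} {k : ℕ} (hf : f ^ 3 ^ k = 1) {Z : Subgroup G} (h3 : 3 ∣ Nat.card Z)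
    (hn : ∀ x ∈ Z, f * x * f⁻¹ ∈ Z) : ∃ w ∈ Z, w ≠ 1 ∧ Commute f w := by
  haveI : Fact (Nat.Prime 3) := ⟨Nat.prime_three⟩
  have hpow : ∀ g ∈ zpowers f, ∀ x ∈ Z, g * x * g⁻¹ ∈ Z := fun g hg x hx => by
    have hN : f ∈ normalizer (Z : Set G) := mem_normalizer_fintype hn
    exact (mem_normalizer_iff.1 ((zpowers_le.2 hN) hg) x).1 hx
  letI : MulAction (zpowers f) Z :=
    { smul := fun g x => ⟨g * x * (g : G)⁻¹, hpow g g.2 x x.2⟩
      one_smul := fun x => Subtype.ext (show (1 : G) * x * (1 : G)⁻¹ = x by group)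
      mul_smul := fun g h x => Subtype.ext
        (show ((g : G) * h) * x * ((g : G) * h)⁻¹ = g * (h * x * (h : G)⁻¹) * (g : G)⁻¹ by group) }
  have hP : IsPGroup 3 (zpowers f) := by
    rintro ⟨g, hg⟩
    obtain ⟨i, rfl⟩ := hg
    exact ⟨k, Subtype.ext (show (f ^ i) ^ 3 ^ k = 1 by
      rw [← zpow_natCast, ← zpow_mul, mul_comm, zpow_mul, zpow_natCast, hf, one_zpow])⟩
  obtain ⟨w, hw, hne⟩ := hP.exists_fixed_point_of_prime_dvd_card_of_fixed_point (α := Z) h3 (a := 1)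
    (fun g => Subtype.ext (show (g : G) * 1 * (g : G)⁻¹ = 1 by group))
  exact ⟨w, w.2, fun e => hne (Subtype.ext e.symm),
    mul_inv_eq_iff_eq_mul.1 (congrArg Subtype.val (hw ⟨f, mem_zpowers f⟩))⟩

variable {ι : Type} [Fintype ι] [DecidableEq ι] {D : Data G ι} [Finite G]

theorem card_cent (T : Tri D) : Nat.card ↥(centralizer ({T.y0} : Set G)) = 3 ^ 7 * (2 ^ 7 * 5 * 7) := by
  rw [card_centralizer T.order_y0, T.card_CQ]; norm_num

/-- A three-element normalizing the two elements and centralizing the first centralizes both. -/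
theorem three_centralizes (T : Tri D) {P : Subgroup G} (hP : Nat.card P = 3 ^ 7)
    (hPy : ∀ p ∈ P, Commute p T.y0 ∧ Commute p T.y1) {g : G} {k : ℕ} (hg : g ^ 3 ^ k = 1)
    (hn : ∀ x ∈ closure {T.y0, T.y1}, g * x * g⁻¹ ∈ closure {T.y0, T.y1}) (hgy : Commute g T.y0) :
    Commute g T.y1 := by
  haveI : Fact (Nat.Prime 3) := ⟨Nat.prime_three⟩
  set H := centralizer ({T.y0} : Set G) ⊓ normalizer ((closure {T.y0, T.y1} : Subgroup G) : Set G) with hH
  set K := centralizer ({T.y0, T.y1} : Set G) with hK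
  have hKH : K ≤ H := fun c hc => by
    refine ⟨mem_centralizer_singleton_iff.2 (mem_centralizer_iff.1 hc _ (by simp)).symm,
      mem_normalizer_fintype fun x hx => ?_⟩
    show c * x * c⁻¹ ∈ closure {T.y0, T.y1}
    have : Commute c x := by
      have hle : closure {T.y0, T.y1} ≤ centralizer ({c} : Set G) := (closure_le _).2 fun w hw =>
        mem_centralizer_singleton_iff.2 (mem_centralizer_iff.1 hc w hw)
      exact (mem_centralizer_singleton_iff.1 (hle hx) : Commute x c).symm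
    rwa [this.eq, mul_inv_cancel_right]
  have hPK : P ≤ K := fun p hp => mem_centralizer_iff.2 fun w hw => by
    rcases hw with rfl | rfl
    exacts [(hPy p hp).1.eq.symm, (hPy p hp).2.eq.symm]
  have hgH : g ∈ H := ⟨mem_centralizer_singleton_iff.2 hgy.eq, mem_normalizer_fintype hn⟩
  have hPH : P ≤ H := hPK.trans hKH
  have hcard : Nat.card (P.subgroupOf H) = 3 ^ (Nat.card H).factorization 3 := by
    rw [Nat.card_congr (subgroupOfEquivOfLe hPH).toEquiv, hP]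
    congr 1
    refine le_antisymm ((Nat.prime_three.pow_dvd_iff_le_factorization Nat.card_pos.ne').1
      (hP ▸ card_dvd_of_le hPH)) ?_
    refine ((Nat.factorization_le_iff_dvd Nat.card_pos.ne' Nat.card_pos.ne').2
      (card_dvd_of_le (inf_le_left : H ≤ centralizer ({T.y0} : Set G))) 3).trans ?_
    rw [card_cent T, Nat.factorization_mul (by norm_num) (by norm_num), Finsupp.add_apply,
      Nat.Prime.factorization_pow Nat.prime_three, Finsupp.single_eq_same,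
      Nat.factorization_eq_zero_of_not_dvd (show ¬ 3 ∣ 2 ^ 7 * 5 * 7 by norm_num)]
  let S : Sylow 3 H := Sylow.ofCard _ hcard
  have hgP : IsPGroup 3 (zpowers (⟨g, hgH⟩ : H)) := by
    rintro ⟨x, hx⟩
    obtain ⟨i, rfl⟩ := hx
    exact ⟨k, Subtype.ext (Subtype.ext (show (g ^ i) ^ 3 ^ k = 1 by
      rw [← zpow_natCast, ← zpow_mul, mul_comm, zpow_mul, zpow_natCast, hg, one_zpow]))⟩
  obtain ⟨S', hS'⟩ := hgP.exists_le_sylow
  obtain ⟨c, hc⟩ := MulAction.exists_smul_eq H S' S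
  have hm : MulAut.conj c ⟨g, hgH⟩ ∈ P.subgroupOf H := by
    have e : ((c • S' : Sylow 3 H) : Subgroup H) = P.subgroupOf H := by rw [hc]; rfl
    rw [← e, Sylow.coe_subgroup_smul]
    exact smul_mem_pointwise_smul _ _ _ (hS' (mem_zpowers _))
  rw [mem_subgroupOf] at hm
  simp only [MulAut.conj_apply, Subgroup.coe_mul, InvMemClass.coe_inv] at hm
  -- the centralizer of both is normal in the normalizer
  have hcN := (mem_normalizer_iff.1 c.2.2 T.y1).1 (subset_closure (by simp))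
  have hle : closure {T.y0, T.y1} ≤ centralizer ({(c : G) * g * (c : G)⁻¹} : Set G) := (closure_le _).2 fun w hw =>
    mem_centralizer_singleton_iff.2 (mem_centralizer_iff.1 (hPK hm) w hw)
  have := mem_centralizer_singleton_iff.1 (hle hcN)
  exact ((Commute.conj_iff (c : G)).1 (this : Commute ((c : G) * T.y1 * (c : G)⁻¹) _)).symm

namespace Ax

variable {T : Tri D} (F : Ax T)

/-- The frame of the coordinates. -/
def fr : Cfsg.Lib.UFourThreeRecog.Frame (CQ T.y0) := F.L.frame F.axis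

theorem facts : F.fr.Facts := by
  refine ⟨?_, ?_, ?_, ?_, ?_⟩
  · rw [fr, F.L.frame_z]; exact F.L.order_z
  · rw [fr, F.L.frame_A]; exact F.axis.card_ySub
  · rw [fr, F.L.frame_A]; exact F.axis.centralizer_eq
  · rw [fr, F.L.frame_z, F.L.card_cent]; norm_num
  · rw [fr, F.L.frame_z]; exact F.L.cent_eq_closure

theorem fr_A : F.fr.A = F.L.ySub := F.L.frame_A F.axis

theorem x_eq : F.fr.x = F.L.ψ 1 * F.l * (F.L.ψ 1)⁻¹ := by
  show F.L.ψ 576 * F.L.ψ 24 * F.L.ψ 576 * F.l * (F.L.ψ 576 * F.L.ψ 24 * F.L.ψ 576)⁻¹ = _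
  rw [F.L.s_mul_conj (Loc.ok_gens (by decide)) Loc.gen_facts.2.1]

/-- The second transvection. -/
def x2 : CQ T.y0 := F.fr.m * F.fr.x * F.fr.m⁻¹

theorem x2_l2 : F.x2 * F.fr.l₂ * F.x2⁻¹ = F.fr.a⁻¹ * F.fr.l₂ := by
  rw [x2, Cfsg.Lib.UFourThreeRecog.Frame.l₂,
    show F.fr.m * F.fr.x * F.fr.m⁻¹ * (F.fr.m * F.fr.l * F.fr.m⁻¹) * (F.fr.m * F.fr.x * F.fr.m⁻¹)⁻¹ =
      F.fr.m * (F.fr.x * F.fr.l * F.fr.x⁻¹) * F.fr.m⁻¹ by group, F.fr.x_l,
    show F.fr.m * (F.fr.a * F.fr.l) * F.fr.m⁻¹ = (F.fr.m * F.fr.a * F.fr.m⁻¹) * (F.fr.m * F.fr.l * F.fr.m⁻¹) by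
      group, F.fr.m_a]

theorem x2_a : Commute F.x2 F.fr.a := by
  have h := F.fr.x_a.map (MulAut.conj F.fr.m).toMonoidHom
  simp only [MulEquiv.coe_toMonoidHom, MulAut.conj_apply, F.fr.m_a] at h
  exact Commute.inv_right_iff.1 h

theorem x_normalizes : F.fr.x ∈ normalizer (F.fr.A : Set (CQ T.y0)) ∧
    F.x2 ∈ normalizer (F.fr.A : Set (CQ T.y0)) := by
  have hx := F.fr.M0_le_normalizer (subset_closure ⟨5, ⟨by norm_num, by norm_num⟩, rfl⟩)
  have hm := F.fr.M0_le_normalizer (subset_closure ⟨3, ⟨by norm_num, by norm_num⟩, rfl⟩)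
  exact ⟨hx, mul_mem (mul_mem hm hx) (inv_mem hm)⟩

/-- The three-group over the group of order 81. -/
def big : Subgroup (CQ T.y0) := (zpowers F.x2 ⊔ (zpowers F.fr.x ⊔ zpowers F.fr.a)) ⊔ F.fr.A

theorem big_pGroup : IsPGroup 3 F.big := by
  haveI : Fact (Nat.Prime 3) := ⟨Nat.prime_three⟩
  have hz : ∀ {w : CQ T.y0}, w ^ 3 = 1 → IsPGroup 3 (zpowers w) := fun {w} hw => by
    rintro ⟨g, hg⟩
    obtain ⟨i, rfl⟩ := hg
    exact ⟨1, Subtype.ext (show (w ^ i) ^ 3 ^ 1 = 1 by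
      rw [pow_one, ← zpow_natCast, ← zpow_mul, mul_comm, zpow_mul, zpow_natCast, hw, one_zpow])⟩
  have hl3 : F.l ^ 3 = 1 := F.axis.cube
  have hx3 : F.fr.x ^ 3 = 1 := by rw [F.x_eq, conj_pow, hl3]; group
  have hx23 : F.x2 ^ 3 = 1 := by rw [x2, conj_pow, hx3]; group
  have h1 : IsPGroup 3 (zpowers F.fr.x ⊔ zpowers F.fr.a : Subgroup (CQ T.y0)) :=
    (hz hx3).to_sup_of_normal_right' (hz F.fr.a_three) (zpowers_le.2 (mem_normalizer_fintype fun w hw => by
      obtain ⟨i, rfl⟩ := hw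
      show F.fr.x * F.fr.a ^ i * F.fr.x⁻¹ ∈ zpowers F.fr.a
      rw [(F.fr.x_a.zpow_right i).eq, mul_inv_cancel_right]
      exact zpow_mem (mem_zpowers _) i))
  have hx2z : F.x2 ∈ F.L.zComm := by
    rw [x2, F.x_eq]
    exact (F.L.nrm_code (h := 1152) (by decide)).zComm F.axis.x_mem
  obtain ⟨c, hc, hcx, -, -⟩ := F.L.zComm_commutator hx2z F.axis.x_mem
  have hxx : F.x2 * F.fr.x * F.x2⁻¹ = c * F.fr.x := by
    rw [← F.x_eq] at hcx
    rw [hcx]; group
  have h2 : IsPGroup 3 (zpowers F.x2 ⊔ (zpowers F.fr.x ⊔ zpowers F.fr.a) : Subgroup (CQ T.y0)) := by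
    refine (hz hx23).to_sup_of_normal_right' h1 (zpowers_le.2 (mem_normalizer_iff_map_conj_eq.2 ?_))
    refine eq_of_le_of_card_ge ?_
      (card_map_of_injective (f := (MulAut.conj F.x2).toMonoidHom) (EquivLike.injective (MulAut.conj F.x2))).ge
    rw [Subgroup.map_sup, MonoidHom.map_zpowers, MonoidHom.map_zpowers]
    show zpowers (F.x2 * F.fr.x * F.x2⁻¹) ⊔ zpowers (F.x2 * F.fr.a * F.x2⁻¹) ≤ _
    rw [hxx, F.x2_a.eq, mul_inv_cancel_right]
    exact sup_le (zpowers_le.2 (mul_mem (mem_sup_right hc) (mem_sup_left (mem_zpowers _)))) le_sup_right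
  refine h2.to_sup_of_normal_right' (IsPGroup.of_card (n := 4) F.facts.card_A) ?_
  exact sup_le (zpowers_le.2 F.x_normalizes.2) (sup_le (zpowers_le.2 F.x_normalizes.1)
    (zpowers_le.2 (le_normalizer F.fr.a_mem)))

/-- Its preimage. -/
def pre : Subgroup G := (F.big.comap (QuotientGroup.mk' (selfGrp T.y0))).map (centralizer ({T.y0} : Set G)).subtype

theorem pre_pGroup : IsPGroup 3 F.pre := by
  haveI : Fact (Nat.Prime 3) := ⟨Nat.prime_three⟩
  refine IsPGroup.map (F.big_pGroup.comap_of_ker_isPGroup _ ?_) _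
  rw [QuotientGroup.ker_mk']
  refine IsPGroup.of_card (n := 1) ?_
  rw [selfGrp, Nat.card_zpowers, ← Subgroup.orderOf_coe, pow_one]
  exact T.order_y0

theorem A_le_pre : F.A ≤ F.pre := map_mono (comap_mono (by rw [← F.fr_A]; exact le_sup_right))

theorem pre_mem {w : CQ T.y0} (hw : w ∈ F.big) : ∃ g ∈ F.pre, ∃ hg : Commute g T.y0, cmk hg = w := by
  obtain ⟨g, hg, rfl⟩ := cmk_surj w
  exact ⟨g, ⟨⟨g, mem_centralizer_singleton_iff.2 hg.eq⟩, hw, rfl⟩, hg, rfl⟩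

theorem fixed_line {w : CQ T.y0} (hw : w ∈ F.fr.A) (h1 : Commute F.fr.x w) (h2 : Commute F.x2 w) :
    w ∈ zpowers F.fr.a := by
  set E := F.fr
  obtain ⟨v, -, e⟩ := E.exists_pow_word hw
  rw [E.wordG_pow] at e
  set p := v / 27 % 3
  set q := v / 9 % 3 with hq
  set r := v / 3 % 3 with hr
  set t := v % 3 with ht
  have hq3 : q < 3 := Nat.mod_lt _ (by norm_num)
  have hr3 : r < 3 := Nat.mod_lt _ (by norm_num)
  have ht3 : t < 3 := Nat.mod_lt _ (by norm_num)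
  have ha1 : E.a ≠ 1 := fun e1 => by
    have h := F.L.psi_eq_one (codes_three.1)
    exact absurd (h.1 e1) (by norm_num)
  have h0 : ∀ {n : ℕ}, n < 3 → E.a ^ n = 1 → n = 0 := fun {n} hn e1 => by
    have := orderOf_eq_prime (hp := ⟨Nat.prime_three⟩) E.a_three ha1
    exact Nat.eq_zero_of_dvd_of_lt (this ▸ orderOf_dvd_of_pow_eq_one e1) hn
  have hcomm : Commute F.fr.x E.l₂ := E.x_l₂
  have ex : E.x * w * E.x⁻¹ = w := by rw [h1.eq, mul_inv_cancel_right]
  rw [e] at ex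
  rw [show E.x * (E.a ^ p * E.a₂ ^ q * E.l ^ r * E.l₂ ^ t) * E.x⁻¹ = (E.x * E.a ^ p * E.x⁻¹) *
      (E.x * E.a₂ ^ q * E.x⁻¹) * (E.x * E.l ^ r * E.x⁻¹) * (E.x * E.l₂ ^ t * E.x⁻¹) by group, ← conj_pow, ← conj_pow,
    ← conj_pow, ← conj_pow, E.x_a₂, E.x_l, E.x_a.eq, mul_inv_cancel_right, hcomm.eq, mul_inv_cancel_right,
    mul_left_inj, mul_assoc (E.a ^ p), mul_assoc (E.a ^ p) (E.a₂ ^ q), mul_right_inj] at ex
  have c1 : Commute (E.a * E.l⁻¹) E.a₂ := E.a_a₂.mul_left E.a₂_l.symm.inv_left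
  have c2 : Commute (E.a₂ ^ q) (E.a ^ r) := (E.a_a₂.symm.pow_pow q r)
  rw [c1.mul_pow, E.a_l.mul_pow, mul_assoc, ← mul_assoc (E.a₂ ^ q), c2.eq, mul_assoc (E.a ^ r),
    ← mul_assoc ((E.a * E.l⁻¹) ^ q)] at ex
  have e1 := mul_eq_right.1 ex
  rw [E.a_l.inv_right.mul_pow, mul_assoc, ((E.a_l.inv_right).symm.pow_pow q r).eq, ← mul_assoc, ← pow_add,
    inv_pow, mul_inv_eq_one] at e1
  have hlz : Commute (E.l ^ q) T.zbar := by
    rw [← e1]
    exact (F.L.cent codes_three.1).pow_left _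
  have hl1 : E.l ^ q = 1 := F.axis.eq_one_of_comm hlz
  have hq0 : q = 0 := by
    have := orderOf_eq_prime (hp := ⟨Nat.prime_three⟩) F.axis.cube F.axis.ne
    exact Nat.eq_zero_of_dvd_of_lt (this ▸ orderOf_dvd_of_pow_eq_one hl1) hq3
  rw [hl1, hq0, Nat.zero_add] at e1
  have hr0 : r = 0 := h0 hr3 e1
  rw [hq0, hr0, pow_zero, pow_zero, mul_one, mul_one] at e
  have ex2 : F.x2 * w * F.x2⁻¹ = w := by rw [h2.eq, mul_inv_cancel_right]
  rw [e, show F.x2 * (E.a ^ p * E.l₂ ^ t) * F.x2⁻¹ = (F.x2 * E.a ^ p * F.x2⁻¹) * (F.x2 * E.l₂ ^ t * F.x2⁻¹) by group,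
    ← conj_pow, ← conj_pow, F.x2_l2, F.x2_a.eq, mul_inv_cancel_right, mul_right_inj,
    E.a_l₂.inv_left.mul_pow, mul_eq_right, inv_pow, inv_eq_one] at ex2
  rw [h0 ht3 ex2, pow_zero, mul_one] at e
  rw [e]
  exact pow_mem (mem_zpowers _) p

/-- The centre of a large three-group containing the preimage is in the first two elements. -/
theorem centre_le {P : Subgroup G} (hP : F.pre ≤ P) {g : G} (hg : g ∈ P) (hc : ∀ p ∈ P, Commute g p) :
    g ∈ closure {T.y0, T.y1} := by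
  have hgA : g ∈ F.A := by
    rw [← F.centralizer_A, mem_centralizer_iff]
    exact fun a ha => (hc a (hP (F.A_le_pre ha))).eq.symm
  obtain ⟨hgy, hgY⟩ := F.mem_A.1 hgA
  have hfix : ∀ w ∈ F.big, Commute w (cmk hgy) := fun w hw => by
    obtain ⟨d, hd, hdy, rfl⟩ := F.pre_mem hw
    exact cmk_comm (hc d (hP hd)).symm
  have := F.fixed_line (by rw [F.fr_A]; exact hgY) (hfix _ (mem_sup_left (mem_sup_right (mem_sup_left (mem_zpowers _)))))
    (hfix _ (mem_sup_left (mem_sup_left (mem_zpowers _))))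
  obtain ⟨n, -, hn⟩ : ∃ n < 3, F.fr.a ^ n = cmk hgy := by
    obtain ⟨i, hi⟩ := mem_zpowers_iff.1 this
    obtain ⟨n, hn, en⟩ := zpow_three F.fr.a_three i
    exact ⟨n, hn, by rw [← en, hi]⟩
  rw [show F.fr.a = cmk T.c01.symm from F.e1, cmk_pow] at hn
  obtain ⟨i, rfl⟩ := (cmk_eq _ _).1 hn
  exact mul_mem (pow_mem (subset_closure (by simp)) n) (zpow_mem (subset_closure (by simp)) i)

theorem Z_cases {w : G} (hw : w ∈ closure {T.y0, T.y1}) : ∃ i < 3, ∃ j < 3, w = T.y0 ^ i * T.y1 ^ j := by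
  induction hw using closure_induction with
  | mem x hx =>
    rcases hx with rfl | rfl
    · exact ⟨1, by norm_num, 0, by norm_num, by simp⟩
    · exact ⟨0, by norm_num, 1, by norm_num, by simp⟩
  | one => exact ⟨0, by norm_num, 0, by norm_num, by simp⟩
  | mul x y _ _ hx hy =>
    obtain ⟨i, -, j, -, rfl⟩ := hx
    obtain ⟨i', -, j', -, rfl⟩ := hy
    refine ⟨(i + i') % 3, Nat.mod_lt _ (by norm_num), (j + j') % 3, Nat.mod_lt _ (by norm_num), ?_⟩
    rw [← pow_eq_pow_mod _ T.cube0, ← pow_eq_pow_mod _ T.cube1, pow_add, pow_add,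
      (T.c01.symm.pow_pow j i').mul_mul_mul_comm]
  | inv x _ hx =>
    obtain ⟨i, -, j, -, rfl⟩ := hx
    refine ⟨2 * i % 3, Nat.mod_lt _ (by norm_num), 2 * j % 3, Nat.mod_lt _ (by norm_num),
      inv_eq_of_mul_eq_one_right ?_⟩
    rw [← pow_eq_pow_mod _ T.cube0, ← pow_eq_pow_mod _ T.cube1, (T.c01.symm.pow_pow j (2 * i)).mul_mul_mul_comm,
      ← pow_add, ← pow_add, show i + 2 * i = 3 * i by ring, show j + 2 * j = 3 * j by ring, pow_mul, pow_mul,
      T.cube0, T.cube1, one_pow, one_pow, one_mul]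

theorem μ_y1 : F.μ * T.y1 * F.μ⁻¹ = T.y1⁻¹ := by
  refine T.low_ext (T.low_conj F.μ_y0 F.μ_z T.y1_low) (inv_mem T.y1_low) ?_
  show cmk F.μ_y0 * cmk T.c01.symm * (cmk F.μ_y0)⁻¹ = (cmk T.c01.symm)⁻¹
  rw [F.eμ, ← F.e1]
  exact F.fr.m_a

theorem μ_b : F.μ * F.b * F.μ⁻¹ = F.b⁻¹ := by
  refine T.low_ext (T.low_conj F.μ_y0 F.μ_z F.b_low) (inv_mem F.b_low) ?_
  show cmk F.μ_y0 * cmk F.b_y0 * (cmk F.μ_y0)⁻¹ = (cmk F.b_y0)⁻¹
  obtain ⟨-, -, o8, o16, o1152, -, m2, -, j2, -, -⟩ := codes_three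
  rw [F.eμ, ← F.e2, F.L.conj_eq o1152 o8 j2]
  exact (inv_eq_of_mul_eq_one_right (by rw [F.L.mul_eq o8 o16 m2, F.L.psi_zero])).symm

/-- Three-elements normalizing a large three-subgroup containing the preimage centralize the first element. -/
theorem norm_three {P : Subgroup G} (hcard : Nat.card P = 3 ^ 7) (hP : F.pre ≤ P)
    (hPy : ∀ p ∈ P, Commute p T.y0) {f : G} {k : ℕ} (hf : f ^ 3 ^ k = 1)
    (hn : f ∈ normalizer (P : Set G)) : Commute f T.y0 := by
  have hy0P : T.y0 ∈ P := hP (F.A_le_pre F.y0_mem)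
  have hconj : ∀ {g : G}, g ∈ P → (∀ p ∈ P, Commute g p) →
      f * g * f⁻¹ ∈ P ∧ ∀ p ∈ P, Commute (f * g * f⁻¹) p := fun {g} hg hc => by
    refine ⟨(mem_normalizer_iff.1 hn g).1 hg, fun p hp => ?_⟩
    have h' := hc _ ((mem_normalizer_iff.1 (inv_mem hn) p).1 hp)
    have := (Commute.conj_iff f).2 h'
    rwa [show f * (f⁻¹ * p * f⁻¹⁻¹) * f⁻¹ = p by group] at this
  obtain ⟨hf0, hf0c⟩ := hconj hy0P fun p hp => (hPy p hp).symm
  obtain ⟨i, hi, j, hj, e0⟩ := Z_cases (F.centre_le hP hf0 hf0c)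
  by_cases hy1 : ∀ p ∈ P, Commute p T.y1
  swap
  · have hj0 : T.y1 ^ j = 1 := by
      by_contra hne
      refine hy1 fun p hp => ?_
      have hpj : Commute p (T.y1 ^ j) := by
        have := ((hPy p hp).pow_right i).inv_right.mul_right (hf0c p hp).symm
        rwa [e0, inv_mul_cancel_left] at this
      interval_cases j
      · simp at hne
      · rwa [pow_one] at hpj
      · have := hpj.mul_right hpj
        rwa [← pow_add, pow_succ, T.cube1, one_mul] at this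
    rw [hj0, mul_one] at e0
    refine three_comm hf ?_
    interval_cases i
    · simp only [pow_zero, conj_eq_one_iff] at e0
      have := T.order_y0
      rw [e0, orderOf_one] at this
      norm_num at this
    · exact Or.inl (by rwa [pow_one] at e0)
    · refine Or.inr (e0.trans (eq_inv_of_mul_eq_one_left ?_))
      rw [← pow_succ, T.cube0]
  -- the two elements are central
  set Z := closure {T.y0, T.y1} with hZ
  have hy0Z : T.y0 ∈ Z := subset_closure (by simp)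
  have hy1Z : T.y1 ∈ Z := subset_closure (by simp)
  have hPy' : ∀ p ∈ P, Commute p T.y0 ∧ Commute p T.y1 := fun p hp => ⟨hPy p hp, hy1 p hp⟩
  have hZP : ∀ x ∈ Z, x ∈ P ∧ ∀ p ∈ P, Commute x p := fun x hx => by
    obtain ⟨a, -, b, -, rfl⟩ := Z_cases hx
    exact ⟨mul_mem (pow_mem hy0P a) (pow_mem (hP (F.A_le_pre F.y1_mem)) b),
      fun p hp => ((hPy p hp).symm.pow_left a).mul_left ((hy1 p hp).symm.pow_left b)⟩
  have hfZ : ∀ x ∈ Z, f * x * f⁻¹ ∈ Z := fun x hx => by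
    obtain ⟨h1, h2⟩ := hconj (hZP x hx).1 (hZP x hx).2
    exact F.centre_le hP h1 h2
  have hμZ : ∀ x ∈ Z, F.μ * x * F.μ⁻¹ ∈ Z := fun x hx => by
    obtain ⟨a, -, b, -, rfl⟩ := Z_cases hx
    rw [show F.μ * (T.y0 ^ a * T.y1 ^ b) * F.μ⁻¹ = (F.μ * T.y0 ^ a * F.μ⁻¹) * (F.μ * T.y1 ^ b * F.μ⁻¹) by group,
      ← conj_pow, ← conj_pow, F.μ_y1, F.μ_y0.eq, mul_inv_cancel_right]
    exact mul_mem (pow_mem hy0Z a) (pow_mem (inv_mem hy1Z) b)
  have hsw : ∀ g : G, (∀ x ∈ Z, g * x * g⁻¹ ∈ Z) → g ^ 3 ^ k = 1 → ∀ v ∈ Z, v ≠ 1 → Commute g v →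
      (v ∈ zpowers T.y0 ∨ v ∈ zpowers T.y1) → Commute g T.y0 ∧ Commute g T.y1 := by
    intro g hgn hg v hv hv1 hgv hcase
    have hback : ∀ {y : G}, y ^ 3 = 1 → v ∈ zpowers y → Commute g y := fun {y} hy h => by
      obtain ⟨m, hm⟩ := mem_zpowers_iff.1 h
      obtain ⟨n, hn, en⟩ := zpow_three hy m
      rw [en] at hm
      interval_cases n
      · exact absurd hm.symm (by simpa using hv1)
      · rwa [← hm, pow_one] at hgv
      · have := hgv.mul_right hgv
        rwa [← hm, ← pow_add, pow_succ, hy, one_mul] at this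
    rcases hcase with h | h
    · exact ⟨hback T.cube0 h, three_centralizes T hcard hPy' hg hgn (hback T.cube0 h)⟩
    · have hswap : closure {T.swap.y0, T.swap.y1} = Z := by rw [hZ, Set.pair_comm T.y0]; rfl
      refine ⟨?_, hback T.cube1 h⟩
      exact three_centralizes T.swap hcard (fun p hp => ⟨hy1 p hp, hPy p hp⟩) hg
        (fun x hx => by rw [hswap] at hx ⊢; exact hgn x hx) (hback T.cube1 h)
  have hf3 : 3 ∣ Nat.card Z := T.order_y0 ▸ Z.orderOf_dvd_natCard hy0Z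
  obtain ⟨w, hwZ, hw1, hfw⟩ := exists_fixed hf hf3 hfZ
  obtain ⟨a, ha, b, hb, rfl⟩ := Z_cases hwZ
  by_cases hA : a = 0
  · exact (hsw f hfZ hf _ hwZ hw1 hfw (Or.inr (by rw [hA, pow_zero, one_mul]; exact pow_mem (mem_zpowers _) b))).1
  by_cases hB : b = 0
  · exact (hsw f hfZ hf _ hwZ hw1 hfw (Or.inl (by rw [hB, pow_zero, mul_one]; exact pow_mem (mem_zpowers _) a))).1
  set g := F.μ * f * F.μ⁻¹ with hgdef
  have hgk : g ^ 3 ^ k = 1 := by rw [hgdef, conj_pow, hf]; group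
  have hμinv : ∀ x ∈ Z, F.μ⁻¹ * x * F.μ ∈ Z := fun x hx => by
    have h := (mem_normalizer_iff.1 (inv_mem (mem_normalizer_fintype hμZ)) x).1 hx
    rwa [inv_inv] at h
  have hgZ : ∀ x ∈ Z, g * x * g⁻¹ ∈ Z := fun x hx => by
    rw [show g * x * g⁻¹ = F.μ * (f * (F.μ⁻¹ * x * F.μ) * f⁻¹) * F.μ⁻¹ by rw [hgdef]; group]
    exact hμZ _ (hfZ _ (hμinv x hx))
  have hμw : F.μ * (T.y0 ^ a * T.y1 ^ b) * F.μ⁻¹ = T.y0 ^ a * T.y1⁻¹ ^ b := by
    rw [show F.μ * (T.y0 ^ a * T.y1 ^ b) * F.μ⁻¹ = (F.μ * T.y0 ^ a * F.μ⁻¹) * (F.μ * T.y1 ^ b * F.μ⁻¹) by group,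
      ← conj_pow, ← conj_pow, F.μ_y1, F.μ_y0.eq, mul_inv_cancel_right]
  have hgw : Commute g (T.y0 ^ a * T.y1⁻¹ ^ b) := by
    rw [← hμw, hgdef]; exact (Commute.conj_iff _).2 hfw
  set w := T.y0 ^ a * T.y1 ^ b with hw
  set w' := T.y0 ^ a * T.y1⁻¹ ^ b with hw'
  obtain ⟨c, hc, d, hd, ev⟩ := Z_cases (hgZ w hwZ)
  have y1inv : T.y1⁻¹ = T.y1 ^ 2 := inv_eq_of_mul_eq_one_right (by rw [← pow_succ', T.cube1])
  have hy1p : ∀ n : ℕ, T.y1⁻¹ ^ n = T.y1 ^ (2 * n) := fun n => by rw [y1inv, ← pow_mul]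
  have hsq : T.y1⁻¹ ^ b * T.y1⁻¹ ^ b = T.y1 ^ b := by
    rw [hy1p, ← pow_add, show 2 * b + 2 * b = b + 3 * b by ring, pow_add, pow_mul, T.cube1, one_pow, mul_one]
  -- the image of `w` lies on one of the four lines
  have hcases : (c = 0 ∨ d = 0) ∨ (T.y0 ^ c * T.y1 ^ d = w ∨ T.y0 ^ c * T.y1 ^ d = w⁻¹) ∨
      (T.y0 ^ c * T.y1 ^ d = w' ∨ T.y0 ^ c * T.y1 ^ d = w'⁻¹) := by
    have hiv : ∀ {p q p' q' : ℕ}, (p + p') % 3 = 0 → (q + q') % 3 = 0 →
        T.y0 ^ p * T.y1 ^ q = (T.y0 ^ p' * T.y1 ^ q')⁻¹ := fun {p q p' q'} h1 h2 => by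
      refine eq_inv_of_mul_eq_one_left ?_
      rw [(T.c01.symm.pow_pow q p').mul_mul_mul_comm, ← pow_add, ← pow_add, pow_eq_pow_mod _ T.cube0,
        pow_eq_pow_mod (q + q') T.cube1, h1, h2, pow_zero, pow_zero, one_mul]
    have heq : ∀ {p q p' q' : ℕ}, p % 3 = p' % 3 → q % 3 = q' % 3 →
        T.y0 ^ p * T.y1 ^ q = T.y0 ^ p' * T.y1 ^ q' := fun h1 h2 => by
      rw [pow_eq_pow_mod _ T.cube0, pow_eq_pow_mod _ T.cube1, h1, h2, ← pow_eq_pow_mod _ T.cube0,
        ← pow_eq_pow_mod _ T.cube1]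
    by_cases hcd : c = 0 ∨ d = 0
    · exact Or.inl hcd
    right
    rw [hw, hw', hy1p]
    by_cases h1 : c = a <;> by_cases h2 : d = b
    · exact Or.inl (Or.inl (heq (by interval_cases a <;> interval_cases b <;> omega) (by interval_cases a <;> interval_cases b <;> omega)))
    · exact Or.inr (Or.inl (heq (by interval_cases a <;> interval_cases b <;> omega) (by interval_cases a <;> interval_cases b <;> omega)))
    · exact Or.inr (Or.inr (hiv (by interval_cases a <;> interval_cases b <;> omega) (by interval_cases a <;> interval_cases b <;> omega)))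
    · exact Or.inl (Or.inr (hiv (by interval_cases a <;> interval_cases b <;> omega) (by interval_cases a <;> interval_cases b <;> omega)))
  rcases hcases with hcd | hline | hline
  · have hv1 : g * w * g⁻¹ ≠ 1 := fun e => hw1 (conj_eq_one_iff.1 e)
    have hh := hsw (g * f * g⁻¹) (fun x hx => ?_) (by rw [conj_pow, hf]; group) (g * w * g⁻¹) (hgZ w hwZ) hv1
      ((Commute.conj_iff g).2 hfw) ?_
    · obtain ⟨h0, h1⟩ := hh
      have hall : ∀ x ∈ Z, Commute (g * f * g⁻¹) x := fun x hx => by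
        obtain ⟨a, -, b, -, rfl⟩ := Z_cases hx
        exact (h0.pow_right a).mul_right (h1.pow_right b)
      exact (Commute.conj_iff g).1 (hall _ (hgZ _ hy0Z))
    · rw [show g * f * g⁻¹ * x * (g * f * g⁻¹)⁻¹ = g * (f * (g⁻¹ * x * g⁻¹⁻¹) * f⁻¹) * g⁻¹ by group]
      exact hgZ _ (hfZ _ ((mem_normalizer_iff.1 (inv_mem (mem_normalizer_fintype hgZ)) x).1 hx))
    · rw [ev]
      rcases hcd with e | e <;> rw [e, pow_zero]
      · exact Or.inr (by rw [one_mul]; exact pow_mem (mem_zpowers _) d)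
      · exact Or.inl (by rw [mul_one]; exact pow_mem (mem_zpowers _) c)
  · -- both lines are fixed
    have hgw2 : Commute g w := three_comm hgk (by rwa [← ev] at hline)
    have hp : Commute g (w * w') := hgw2.mul_right hgw
    have e2 : w * w' = T.y0 ^ (2 * a) := by
      rw [hw, hw', (T.c01.symm.pow_pow b a).mul_mul_mul_comm, ← pow_add, inv_pow, mul_inv_cancel, mul_one,
        two_mul]
    rw [e2] at hp
    have hne2 : T.y0 ^ (2 * a) ≠ 1 := fun e => by
      have := orderOf_dvd_of_pow_eq_one e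
      rw [T.order_y0] at this
      omega
    obtain ⟨h0, -⟩ := hsw g hgZ hgk _ (pow_mem hy0Z _) hne2 hp (Or.inl (pow_mem (mem_zpowers _) _))
    refine (Commute.conj_iff F.μ).1 ?_
    rw [F.μ_y0.eq, mul_inv_cancel_right, ← hgdef]
    exact h0
  · exfalso
    rw [← ev] at hline
    have hgw' : g * w' * g⁻¹ = w' := by rw [hgw.eq, mul_inv_cancel_right]
    have hww : w = w' ∨ w = w'⁻¹ := by
      rcases hline with e | e
      · exact Or.inl (mul_left_cancel (mul_right_cancel (e.trans hgw'.symm)))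
      · exact Or.inr (mul_left_cancel (mul_right_cancel (e.trans (by rw [← conj_inv, hgw']))))
    have hb1 : T.y1 ^ b ≠ 1 := fun e => by
      have := orderOf_dvd_of_pow_eq_one e
      rw [show orderOf T.y1 = 3 from T.swap.order_y0] at this
      omega
    have ha1 : T.y0 ^ a ≠ 1 := fun e => by
      have := orderOf_dvd_of_pow_eq_one e
      rw [T.order_y0] at this
      omega
    rcases hww with e | e
    · have h := mul_left_cancel (hw.symm.trans (e.trans hw'))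
      exact hb1 (by
        have := congrArg (fun v => v * v) h
        simp only [hsq] at this
        exact mul_eq_left.1 this)
    · have h := mul_eq_one_iff_eq_inv.2 e
      rw [hw, hw', (T.c01.symm.pow_pow b a).mul_mul_mul_comm, inv_pow, mul_inv_cancel, mul_one, ← pow_two,
        ← pow_mul] at h
      have := orderOf_dvd_of_pow_eq_one h
      rw [T.order_y0] at this
      omega

end Ax

end Cfsg.Lib.Extra.SuzFive
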