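import Cfsg.Agent.Lib.Extra.SuzFive.Kernel
import Cfsg.Agent.Lib.Extra.SuzFive.Sylow
import Cfsg.Agent.Lib.UFourThreeRecog.OfFrame
import Cfsg.Agent.Lib.Fusion.Basic
import Cfsg.Agent.Lib.Small.CentralizerGL23Simple
import Cfsg.Agent.Lib.Small.CentralizerGL23Card
import Cfsg.Agent.Lib.MEleven.Spor

/-!
# The normalizer of the group of order 243 induces the Mathieu group of degree eleven
-/

set_option autoImplicit false
set_option maxRecDepth 10000
set_option linter.style.haveILetI false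
set_option linter.unusedSectionVars false

namespace Cfsg.Lib.Extra.SuzFive

open Cfsg Module Cfsg.Lib.Linear Cfsg.Lib.Linear.Orth Cfsg.Lib.Extra.Wide Cfsg.Lib.Extra.SuzLocal
open Cfsg.Lib.Extra.SuzThree
open Cfsg.Lib.UFourThreeRecog (wordG gfun evL M0 G0 pt)
open Subgroup
open scoped Matrix

theorem word_check : ∀ x < 112, evL [0, 0, 2] x = evL ([2, 0, 2, 4, 2, 0, 0, 0, 2] ++
    ([2] ++ [2, 0, 2, 4, 2, 0, 0, 0, 2] ++ [2]) ++ ([2] ++ [2, 0, 2, 4, 2, 0, 0, 0, 2] ++ [2]) ++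
    [2, 0, 2, 4, 2, 0, 0, 0, 2]) x := by
  decide +kernel

theorem gl_generated : ∀ g : Matrix (Fin 2) (Fin 2) (ZMod 3), g 0 0 * g 1 1 - g 0 1 * g 1 0 ≠ 0 →
    ∃ e < 2, ∃ a < 3, ∃ b < 3, ∃ c < 3, ∃ d < 3,
      g = !![-1, 0; 0, 1] ^ e * !![1, 1; 0, 1] ^ a * !![1, 0; 1, 1] ^ b * !![1, 1; 0, 1] ^ c *
        !![1, 0; 1, 1] ^ d := by decide +kernel

theorem gl_central : ∀ g : Matrix (Fin 2) (Fin 2) (ZMod 3), g * g = 1 →
    g * !![0, -1; 1, 0] = !![0, -1; 1, 0] * g → g * !![1, 0; 0, -1] = !![1, 0; 0, -1] * g →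
    g = 1 ∨ g = -1 := by decide +kernel

theorem gl_facts : (!![1, 0; 0, -1] : Matrix (Fin 2) (Fin 2) (ZMod 3)) * !![1, 0; 0, -1] = 1 ∧
    (!![0, -1; 1, 0] : Matrix (Fin 2) (Fin 2) (ZMod 3)) ^ 4 = 1 ∧
    (!![1, 0; 0, -1] : Matrix (Fin 2) (Fin 2) (ZMod 3)) * !![0, -1; 1, 0] * !![1, 0; 0, -1] =
      !![0, -1; 1, 0] ^ 3 ∧
    (!![1, 1; 0, 1] : Matrix (Fin 2) (Fin 2) (ZMod 3)) ^ 3 = 1 ∧
    (!![1, 0; 1, 1] : Matrix (Fin 2) (Fin 2) (ZMod 3)) ^ 3 = 1 ∧
    ((-1 : Matrix (Fin 2) (Fin 2) (ZMod 3)) * !![1, 0; 0, -1] = !![-1, 0; 0, 1]) := by decide +kernel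

variable {G : Type*} [Group G] {ι : Type} [Fintype ι] [DecidableEq ι] {D : Data G ι} [Finite G]

namespace Ax

variable {T : Tri D} (F : Ax T)

/-- The normalizer of the group of order 243. -/
abbrev NA : Subgroup G := normalizer (F.A : Set G)

/-- The normalizer modulo the group. -/
abbrev NQ := F.NA ⧸ F.A.subgroupOf F.NA

/-- The projection. -/
abbrev proj : F.NA →* F.NQ := QuotientGroup.mk' (F.A.subgroupOf F.NA)

theorem proj_one {g : F.NA} : F.proj g = 1 ↔ (g : G) ∈ F.A := by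
  rw [QuotientGroup.mk'_apply, QuotientGroup.eq_one_iff, mem_subgroupOf]

/-- The elements centralizing `z` in the quotient. -/
def toQ : F.K →* F.NQ := F.proj.comp (inclusion inf_le_left)

/-- The image of `z`. -/
def zQ : F.NQ := F.toQ ⟨D.z, F.z_mem_K⟩

theorem z_notMem : D.z ∉ F.A := fun h => D.ctx.ne_one (by
  have := F.A_cube h
  rwa [z_cube] at this)

theorem order_zQ : orderOf F.zQ = 2 := by
  haveI : Fact (Nat.Prime 2) := ⟨Nat.prime_two⟩
  refine orderOf_eq_prime ?_ fun e => F.z_notMem (F.proj_one.1 e)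
  rw [zQ, ← map_pow]
  refine F.proj_one.2 ?_
  show D.z ^ 2 ∈ F.A
  rw [pow_two, D.ctx.sq_z]; exact one_mem _

theorem toQ_comm (k : F.K) : F.toQ k ∈ centralizer ({F.zQ} : Set F.NQ) := by
  refine mem_centralizer_singleton_iff.2 ?_
  rw [zQ, ← map_mul, ← map_mul]
  exact congrArg F.toQ (Subtype.ext (F.K_z k.2).eq)

/-- The elements centralizing `z` in the centralizer of its image. -/
def toC : F.K →* centralizer ({F.zQ} : Set F.NQ) := F.toQ.codRestrict _ F.toQ_comm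

theorem toC_surj : Function.Surjective F.toC := by
  rintro ⟨x, hx⟩
  obtain ⟨⟨g, hg⟩, rfl⟩ := QuotientGroup.mk'_surjective _ x
  have hc : Commute (F.proj ⟨g, hg⟩) F.zQ := mem_centralizer_singleton_iff.1 hx
  set zN : F.NA := inclusion (inf_le_left : F.K ≤ F.NA) ⟨D.z, F.z_mem_K⟩ with hzN
  have ha : D.z⁻¹ * (g * D.z * g⁻¹) ∈ F.A := by
    refine (F.proj_one (g := zN⁻¹ * (⟨g, hg⟩ * zN * ⟨g, hg⟩⁻¹))).1 ?_
    rw [map_mul, map_mul, map_mul, map_inv, map_inv]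
    show F.zQ⁻¹ * (F.proj ⟨g, hg⟩ * F.zQ * (F.proj ⟨g, hg⟩)⁻¹) = 1
    rw [hc.eq, mul_inv_cancel_right, inv_mul_cancel]
  set a := D.z⁻¹ * (g * D.z * g⁻¹) with had
  have hzz : D.z⁻¹ = D.z := inv_eq_of_mul_eq_one_right D.ctx.sq_z
  have hai : D.z * a * D.z⁻¹ = a⁻¹ := by
    rw [had]; simp only [mul_inv_rev, inv_inv, hzz, ← mul_assoc, D.ctx.sq_z, one_mul]
  have ha4 : a * a * (a * a) = a := by
    have := F.A_cube ha
    rw [pow_succ, pow_two] at this
    rw [← mul_assoc, this, one_mul]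
  have hb : g * D.z * g⁻¹ = D.z * a := by rw [had, mul_inv_cancel_left]
  have hk : Commute (a * a * g) D.z := by
    refine mul_inv_eq_iff_eq_mul.1 ?_
    calc a * a * g * D.z * (a * a * g)⁻¹ = a * a * (g * D.z * g⁻¹) * (a * a)⁻¹ := by group
      _ = D.z * ((D.z⁻¹ * a * D.z) * (D.z⁻¹ * a * D.z) * a * (a * a)⁻¹) := by rw [hb]; group
      _ = D.z := by
        rw [show D.z⁻¹ * a * D.z = a⁻¹ by rw [← hai, hzz],
          show a⁻¹ * a⁻¹ * a * (a * a)⁻¹ = (a ^ 3)⁻¹ by group, F.A_cube ha, inv_one, mul_one]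
  have hkK : a * a * g ∈ F.K :=
    ⟨mul_mem (le_normalizer (mul_mem ha ha)) hg, mem_centralizer_singleton_iff.2 hk.eq⟩
  refine ⟨⟨_, hkK⟩, Subtype.ext ?_⟩
  show F.proj (⟨a * a, le_normalizer (mul_mem ha ha)⟩ * ⟨g, hg⟩) = F.proj ⟨g, hg⟩
  rw [map_mul, F.proj_one.2 (show ((⟨a * a, le_normalizer (mul_mem ha ha)⟩ : F.NA) : G) ∈ F.A from mul_mem ha ha),
    one_mul]

theorem toC_ker : F.toC.ker = F.glHom.ker := by
  ext k
  rw [MonoidHom.mem_ker, MonoidHom.mem_ker, F.glHom_one, Subtype.ext_iff]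
  show F.proj (inclusion inf_le_left k) = 1 ↔ _
  rw [F.proj_one]
  exact ⟨fun h => F.cent_z_mem h (F.K_z k.2), fun h => (F.tz_le h).1⟩

/-- The centralizer of the involution in the quotient is the linear group. -/
noncomputable def glEquiv : centralizer ({F.zQ} : Set F.NQ) ≃* GL (Fin 2) (ZMod 3) :=
  (QuotientGroup.quotientKerEquivOfSurjective F.toC F.toC_surj).symm.trans
    ((QuotientGroup.quotientMulEquivOfEq F.toC_ker).trans
      (QuotientGroup.quotientKerEquivOfSurjective F.glHom F.glHom_surj))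

theorem glEquiv_apply (k : F.K) : F.glEquiv (F.toC k) = F.glHom k := by
  have h : QuotientGroup.quotientKerEquivOfSurjective F.toC F.toC_surj (QuotientGroup.mk k) = F.toC k := rfl
  rw [glEquiv, ← h, MulEquiv.trans_apply, MulEquiv.symm_apply_apply]
  rfl

theorem glEquiv_val (k : F.K) : (F.glEquiv (F.toC k)).val = F.matHom k := by
  rw [F.glEquiv_apply, F.glHom_val]

theorem proj_three {g : F.NA} (hgy : Commute (g : G) T.y0) (h : cmk hgy ^ 3 = 1) :
    F.proj g ∈ pResidual 2 F.NQ := by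
  rw [cmk_pow] at h
  obtain ⟨i, hi⟩ := (cmk_one _).1 h
  refine Cfsg.Lib.Fusion.mem_pResidual_of_coprime (Nat.Coprime.coprime_dvd_left (orderOf_dvd_of_pow_eq_one
    (n := 3 ^ 2) ?_) (by norm_num))
  rw [← map_pow]
  refine F.proj_one.2 ?_
  show (g : G) ^ 3 ^ 2 ∈ F.A
  rw [show (3 : ℕ) ^ 2 = 3 * 3 from rfl, pow_mul, hi]
  exact pow_mem (zpow_mem F.y0_mem i) 3

/-- An element of the centralizer of the first element normalizing the image normalizes. -/
theorem lift_mem {g : G} (hg : Commute g T.y0) (h : cmk hg ∈ normalizer (F.L.ySub : Set (CQ T.y0))) : g ∈ F.NA :=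
  mem_normalizer_fintype fun a ha => by
    obtain ⟨hay, hY⟩ := F.mem_A.1 ha
    exact F.mem_A.2 ⟨(hg.mul_left hay).mul_left hg.inv_left, (mem_normalizer_iff.1 h _).1 hY⟩

theorem zσ_mem : F.toQ (⟨D.z, F.z_mem_K⟩ * ⟨F.σ, F.σ_mem_K⟩) ∈ pResidual 2 F.NQ := by
  have hx0 := F.x_normalizes.1
  have hs : F.fr.s ∈ normalizer (F.fr.A : Set (CQ T.y0)) :=
    F.fr.M0_le_normalizer (subset_closure ⟨2, ⟨by norm_num, by norm_num⟩, rfl⟩)
  have hx1 : F.fr.s * F.fr.x * F.fr.s⁻¹ ∈ normalizer (F.fr.A : Set (CQ T.y0)) :=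
    mul_mem (mul_mem hs hx0) (inv_mem hs)
  rw [F.fr_A] at hx0 hx1
  have h3 : F.fr.x ^ 3 = 1 := by rw [F.x_eq, conj_pow, F.axis.cube]; group
  have hi : F.fr.i⁻¹ = F.fr.i * F.fr.i * F.fr.i := inv_eq_of_mul_eq_one_right (by
    rw [← F.fr.i_four]; simp [pow_succ, mul_assoc])
  have hxw : wordG F.fr [2, 0, 2, 4, 2, 0, 0, 0, 2] = F.fr.x := by
    rw [Cfsg.Lib.UFourThreeRecog.Frame.x, mul_inv_rev, mul_inv_rev, F.fr.s_inv, hi]
    simp [wordG, gfun, mul_assoc]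
  have hrel := Cfsg.Lib.UFourThreeRecog.Frame.word_eq F.facts (u := [0, 0, 2])
    (v := [2, 0, 2, 4, 2, 0, 0, 0, 2] ++ ([2] ++ [2, 0, 2, 4, 2, 0, 0, 0, 2] ++ [2]) ++
      ([2] ++ [2, 0, 2, 4, 2, 0, 0, 0, 2] ++ [2]) ++ [2, 0, 2, 4, 2, 0, 0, 0, 2])
    (by decide) (by decide) word_check
  simp only [Cfsg.Lib.UFourThreeRecog.wordG_append, hxw] at hrel
  have h2 : wordG F.fr [2] = F.fr.s := by simp [wordG, gfun]
  have h002 : wordG F.fr [0, 0, 2] = F.fr.z * F.fr.s := by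
    simp [wordG, gfun, Cfsg.Lib.UFourThreeRecog.Frame.z, mul_assoc]
  rw [h2, h002] at hrel
  conv_rhs at hrel => rw [← F.fr.s_inv]
  obtain ⟨g0, h0, e0⟩ := cmk_surj F.fr.x
  obtain ⟨g1, h1, e1⟩ := cmk_surj (F.fr.s * F.fr.x * F.fr.s⁻¹)
  rw [← e0] at hx0
  rw [← e1] at hx1
  let n0 : F.NA := ⟨g0, F.lift_mem h0 hx0⟩
  let n1 : F.NA := ⟨g1, F.lift_mem h1 hx1⟩
  have m0 : F.proj n0 ∈ pResidual 2 F.NQ := F.proj_three (g := n0) h0 (by rw [e0, h3])
  have m1 : F.proj n1 ∈ pResidual 2 F.NQ := F.proj_three (g := n1) h1 (by rw [e1, conj_pow, h3]; group)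
  have hzs : Commute (D.z * F.σ) T.y0 := T.z0.symm.mul_left F.σ_y0
  have hw : Commute (g0 * g1 * g1 * g0) T.y0 := ((h0.mul_left h1).mul_left h1).mul_left h0
  have e : cmk hw = cmk hzs := by
    show cmk h0 * cmk h1 * cmk h1 * cmk h0 = cmk T.z0.symm * cmk F.σ_y0
    rw [e0, e1, F.eσ, show cmk T.z0.symm = F.fr.z from (F.L.frame_z F.axis).symm]
    simp only [F.fr.s_inv, ← mul_assoc] at hrel ⊢
    exact hrel.symm
  obtain ⟨i, hi⟩ := (cmk_eq hw hzs).1 e
  let ny : F.NA := ⟨T.y0 ^ i, le_normalizer (zpow_mem F.y0_mem i)⟩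
  have : (inclusion (inf_le_left : F.K ≤ F.NA)) (⟨D.z, F.z_mem_K⟩ * ⟨F.σ, F.σ_mem_K⟩) = n0 * n1 * n1 * n0 * ny :=
    Subtype.ext hi
  have this' : F.toQ (⟨D.z, F.z_mem_K⟩ * ⟨F.σ, F.σ_mem_K⟩) = F.proj (n0 * n1 * n1 * n0 * ny) := congrArg F.proj this
  rw [this', map_mul, F.proj_one.2 (show (ny : G) ∈ F.A from zpow_mem F.y0_mem i), mul_one, map_mul, map_mul, map_mul]
  exact mul_mem (mul_mem (mul_mem m0 m1) m1) m0

theorem cent_le_residual : centralizer ({F.zQ} : Set F.NQ) ≤ pResidual 2 F.NQ := by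
  intro x hx
  obtain ⟨-, -, -, t1, t2, hzs⟩ := gl_facts
  let T1 : GL (Fin 2) (ZMod 3) := ⟨!![1, 1; 0, 1], !![1, 1; 0, 1] ^ 2, by rw [← pow_succ', t1], by rw [← pow_succ, t1]⟩
  let T2 : GL (Fin 2) (ZMod 3) := ⟨!![1, 0; 1, 1], !![1, 0; 1, 1] ^ 2, by rw [← pow_succ', t2], by rw [← pow_succ, t2]⟩
  set k : F.K := ⟨D.z, F.z_mem_K⟩ * ⟨F.σ, F.σ_mem_K⟩ with hk
  have hS : (F.glEquiv (F.toC k)).val = !![-1, 0; 0, 1] := by
    rw [F.glEquiv_val, hk, map_mul, F.mat_z, F.mat_σ, hzs]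
  have hthree : ∀ U : GL (Fin 2) (ZMod 3), U ^ 3 = 1 → ((F.glEquiv.symm U : _) : F.NQ) ∈ pResidual 2 F.NQ := by
    intro U hU
    refine Cfsg.Lib.Fusion.mem_pResidual_of_coprime (Nat.Coprime.coprime_dvd_left (orderOf_dvd_of_pow_eq_one
      (n := 3) ?_) (by norm_num))
    rw [← SubmonoidClass.coe_pow, ← map_pow, hU, map_one, OneMemClass.coe_one]
  let M : Subgroup (centralizer ({F.zQ} : Set F.NQ)) := (pResidual 2 F.NQ).subgroupOf _
  have hMk : F.toC k ∈ M := F.zσ_mem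
  have hM1 : F.glEquiv.symm T1 ∈ M := hthree T1 (Units.ext (by rw [Units.val_pow_eq_pow_val]; exact t1))
  have hM2 : F.glEquiv.symm T2 ∈ M := hthree T2 (Units.ext (by rw [Units.val_pow_eq_pow_val]; exact t2))
  set y := F.glEquiv ⟨x, hx⟩ with hy
  have hdet : y.val 0 0 * y.val 1 1 - y.val 0 1 * y.val 1 0 ≠ 0 := by
    rw [← Matrix.det_fin_two]
    exact Matrix.GeneralLinearGroup.det_ne_zero y
  obtain ⟨e, -, a, -, b, -, c, -, d, -, hg⟩ := gl_generated y.val hdet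
  have heq : (⟨x, hx⟩ : centralizer ({F.zQ} : Set F.NQ)) = F.toC k ^ e * F.glEquiv.symm T1 ^ a *
      F.glEquiv.symm T2 ^ b * F.glEquiv.symm T1 ^ c * F.glEquiv.symm T2 ^ d := by
    apply F.glEquiv.injective
    simp only [map_mul, map_pow, MulEquiv.apply_symm_apply, ← hy]
    refine Units.ext ?_
    simp only [Units.val_mul, Units.val_pow_eq_pow_val, hS]
    exact hg
  have hmem : (⟨x, hx⟩ : centralizer ({F.zQ} : Set F.NQ)) ∈ M := heq ▸ mul_mem (mul_mem (mul_mem (mul_mem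
    (pow_mem hMk e) (pow_mem hM1 a)) (pow_mem hM2 b)) (pow_mem hM1 c)) (pow_mem hM2 d)
  exact hmem

theorem residual_top : pResidual 2 F.NQ = ⊤ := by
  haveI : Fact (Nat.Prime 2) := ⟨Nat.prime_two⟩
  obtain ⟨hs2, hm4, hsm, -, -, -⟩ := gl_facts
  set μK : F.K := ⟨F.μ, F.μ_mem_K⟩
  set σK : F.K := ⟨F.σ, F.σ_mem_K⟩
  set Mg := F.glHom μK with hMg
  set Sg := F.glHom σK with hSg
  have vM : Mg.val = !![0, -1; 1, 0] := by rw [hMg, F.glHom_val, F.mat_μ]
  have vS : Sg.val = !![1, 0; 0, -1] := by rw [hSg, F.glHom_val, F.mat_σ]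
  have hM4 : Mg ^ 4 = 1 := Units.ext (by rw [Units.val_pow_eq_pow_val, vM]; exact hm4)
  have hS2 : Sg * Sg = 1 := Units.ext (by rw [Units.val_mul, vS]; exact hs2)
  have hcj : Sg * Mg * Sg⁻¹ = Mg ^ 3 := by
    rw [inv_eq_of_mul_eq_one_right hS2]
    exact Units.ext (by rw [Units.val_mul, Units.val_mul, Units.val_pow_eq_pow_val, vS, vM]; exact hsm)
  have hP : IsPGroup 2 (zpowers Sg ⊔ zpowers Mg : Subgroup (GL (Fin 2) (ZMod 3))) := by
    have h1 : IsPGroup 2 (zpowers Sg) := by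
      rintro ⟨_, i, rfl⟩
      exact ⟨1, Subtype.ext (show (Sg ^ i) ^ 2 ^ 1 = 1 by
        rw [pow_one, pow_two, ← (Commute.refl Sg).mul_zpow, hS2, one_zpow])⟩
    have h2 : IsPGroup 2 (zpowers Mg) := by
      rintro ⟨_, i, rfl⟩
      exact ⟨2, Subtype.ext (show (Mg ^ i) ^ 2 ^ 2 = 1 by
        rw [← zpow_natCast, ← zpow_mul, mul_comm, zpow_mul, zpow_natCast, show (2 : ℕ) ^ 2 = 4 from rfl, hM4,
          one_zpow])⟩
    refine h1.to_sup_of_normal_right' h2 (zpowers_le.2 (mem_normalizer_fintype fun w hw => ?_))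
    obtain ⟨i, rfl⟩ := hw
    show Sg * Mg ^ i * Sg⁻¹ ∈ zpowers Mg
    rw [← conj_zpow, hcj]
    exact zpow_mem (pow_mem (mem_zpowers _) 3) i
  set P0 := ((zpowers Sg ⊔ zpowers Mg).map F.glEquiv.symm.toMonoidHom).map
    (centralizer ({F.zQ} : Set F.NQ)).subtype with hP0
  obtain ⟨S, hS⟩ := ((hP.map _).map _ : IsPGroup 2 P0).exists_le_sylow
  have hmem : ∀ k : F.K, F.glHom k ∈ (zpowers Sg ⊔ zpowers Mg) → F.toQ k ∈ (S : Subgroup F.NQ) := fun k hk => by
    refine hS ⟨F.toC k, ⟨F.glHom k, hk, ?_⟩, rfl⟩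
    show F.glEquiv.symm (F.glHom k) = _
    rw [← F.glEquiv_apply, MulEquiv.symm_apply_apply]
  have hμS : F.toQ μK ∈ (S : Subgroup F.NQ) := hmem μK (mem_sup_right (mem_zpowers _))
  have hσS : F.toQ σK ∈ (S : Subgroup F.NQ) := hmem σK (mem_sup_left (mem_zpowers _))
  have hzS : F.zQ ∈ (S : Subgroup F.NQ) := hmem _ (mem_sup_right (by
    have : F.glHom (⟨D.z, F.z_mem_K⟩ : F.K) = Mg ^ 2 := Units.ext (by
      rw [F.glHom_val, F.mat_z, Units.val_pow_eq_pow_val, vM]; decide +kernel)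
    rw [this]; exact pow_mem (mem_zpowers _) 2))
  haveI : Nontrivial (S : Subgroup F.NQ) := ⟨⟨F.zQ, hzS⟩, 1, fun e => by
    have e' : F.zQ = 1 := congrArg Subtype.val e
    have := F.order_zQ
    rw [e', orderOf_one] at this
    norm_num at this⟩
  haveI := S.2.center_nontrivial
  obtain ⟨n, hn⟩ := IsPGroup.iff_card.1 (S.2.to_subgroup (center (S : Subgroup F.NQ)))
  have hn0 : n ≠ 0 := fun e => by
    have := Finite.one_lt_card (α := center (S : Subgroup F.NQ))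
    rw [hn, e, pow_zero] at this
    exact lt_irrefl _ this
  obtain ⟨⟨⟨w, hwS⟩, hwc⟩, hw⟩ := exists_prime_orderOf_dvd_card' (G := center (S : Subgroup F.NQ)) 2
    (hn ▸ dvd_pow_self 2 hn0)
  rw [Subgroup.orderOf_mk, Subgroup.orderOf_mk] at hw
  have hcomm : ∀ a ∈ (S : Subgroup F.NQ), Commute a w := fun a ha =>
    congrArg Subtype.val (mem_center_iff.1 hwc ⟨a, ha⟩)
  have hwz : w ∈ centralizer ({F.zQ} : Set F.NQ) := mem_centralizer_singleton_iff.2 (hcomm _ hzS).eq.symm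
  obtain ⟨k, hk⟩ := F.toC_surj ⟨w, hwz⟩
  have hval : ∀ j : F.K, F.toQ j ∈ (S : Subgroup F.NQ) → F.matHom k * F.matHom j = F.matHom j * F.matHom k := by
    intro j hj
    have : F.toC k * F.toC j = F.toC j * F.toC k := by
      rw [hk]; exact Subtype.ext (hcomm _ hj).eq.symm
    have h' := congrArg (fun v => (F.glEquiv v).val) this
    simpa only [map_mul, Units.val_mul, F.glEquiv_val] using h'
  have hk2 : F.matHom k * F.matHom k = 1 := by
    have : F.toC k * F.toC k = 1 := by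
      rw [hk]; exact Subtype.ext (by rw [Subgroup.coe_mul, OneMemClass.coe_one, ← pow_two, ← hw, pow_orderOf_eq_one])
    have h' := congrArg (fun v => (F.glEquiv v).val) this
    simpa only [map_mul, map_one, Units.val_mul, Units.val_one, F.glEquiv_val] using h'
  have hwz2 : w = F.zQ := by
    rcases gl_central _ hk2 (by rw [← F.mat_μ]; exact hval _ hμS) (by rw [← F.mat_σ]; exact hval _ hσS) with e | e
    · exfalso
      have : F.toC k = 1 := F.glEquiv.injective (Units.ext (by rw [F.glEquiv_val, e, map_one, Units.val_one]))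
      rw [hk] at this
      have e' : w = 1 := congrArg Subtype.val this
      rw [e', orderOf_one] at hw
      norm_num at hw
    · have : F.toC k = F.toC ⟨D.z, F.z_mem_K⟩ :=
        F.glEquiv.injective (Units.ext (by rw [F.glEquiv_val, F.glEquiv_val, e, F.mat_z]))
      rw [hk] at this
      exact congrArg Subtype.val this
  have hle : (S : Subgroup F.NQ) ≤ pResidual 2 F.NQ := fun a ha =>
    F.cent_le_residual (mem_centralizer_singleton_iff.2 (hwz2 ▸ hcomm a ha).eq)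
  obtain ⟨m, hm⟩ := Cfsg.Lib.Fusion.index_pResidual_eq_pow (p := 2) (G := F.NQ)
  have hd : (pResidual 2 F.NQ).index ∣ (S : Subgroup F.NQ).index := index_dvd_of_le hle
  rw [← index_eq_one, hm]
  rcases Nat.eq_zero_or_pos m with rfl | hm0
  · rfl
  · exfalso
    refine S.not_dvd_index ((dvd_pow_self 2 hm0.ne').trans ?_)
    rwa [← hm]

theorem index_M0 : (M0 F.fr).index = 112 := by
  have hG : G0 F.fr = ⊤ := Cfsg.Lib.UFourThreeRecog.Frame.G0_eq_top F.facts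
  have hinv : ∀ g ∈ G0 F.fr, ∀ d, ∃ d', g • pt F.fr d = pt F.fr d' := by
    intro g hg
    rw [G0, ← mem_toSubmonoid, closure_toSubmonoid_of_finite] at hg
    induction hg using Submonoid.closure_induction with
    | one => exact fun d => ⟨d, one_smul _ _⟩
    | mem y hy =>
      intro d
      simp only [Set.mem_insert_iff, Set.mem_singleton_iff] at hy
      rcases hy with rfl | rfl | rfl | rfl | rfl
      exacts [⟨_, Cfsg.Lib.UFourThreeRecog.pt_act F.fr (q := 0) (by norm_num) d⟩,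
        ⟨_, Cfsg.Lib.UFourThreeRecog.pt_act F.fr (q := 1) (by norm_num) d⟩,
        ⟨_, Cfsg.Lib.UFourThreeRecog.pt_act F.fr (q := 2) (by norm_num) d⟩,
        ⟨_, Cfsg.Lib.UFourThreeRecog.pt_act F.fr (q := 3) (by norm_num) d⟩,
        ⟨_, Cfsg.Lib.UFourThreeRecog.pt_act F.fr (q := 4) (by norm_num) d⟩]
    | mul y y' _ _ hy hy' =>
      intro d
      obtain ⟨d', e'⟩ := hy' d
      obtain ⟨d'', e''⟩ := hy d'
      exact ⟨d'', by rw [mul_smul, e', e'']⟩
  have hsurj : Function.Surjective (pt F.fr) := fun c => by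
    obtain ⟨g, rfl⟩ := QuotientGroup.mk_surjective c
    obtain ⟨d, hd⟩ := hinv g (by rw [hG]; trivial) 0
    refine ⟨d, ?_⟩
    rw [← hd, Cfsg.Lib.UFourThreeRecog.pt_zero]
    show ((g * 1 : CQ T.y0) : CQ T.y0 ⧸ M0 F.fr) = _
    rw [mul_one]
  rw [index, ← Nat.card_eq_of_bijective _ ⟨Cfsg.Lib.UFourThreeRecog.Frame.pt_injective F.facts, hsurj⟩,
    Nat.card_fin]

theorem five_dvd : 5 ∣ Nat.card F.NQ := by
  have h1 := card_mul_index (M0 F.fr)
  rw [F.index_M0, T.card_CQ] at h1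
  set H := ((M0 F.fr).comap (QuotientGroup.mk' (selfGrp T.y0))).map (centralizer ({T.y0} : Set G)).subtype with hH
  have hle : H ≤ F.NA := by
    rintro _ ⟨⟨g, hg⟩, hm, rfl⟩
    refine F.lift_mem (mem_centralizer_singleton_iff.1 hg) ?_
    rw [← F.fr_A]
    exact F.fr.M0_le_normalizer hm
  have h5 : 5 ∣ Nat.card H := by
    rw [hH, card_map_of_injective (subtype_injective _)]
    have h2 : Nat.card (M0 F.fr) ∣ Nat.card ((M0 F.fr).comap (QuotientGroup.mk' (selfGrp T.y0))) := by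
      conv_lhs => rw [← map_comap_eq_self_of_surjective (QuotientGroup.mk'_surjective (selfGrp T.y0)) (M0 F.fr)]
      exact card_map_dvd _ _
    refine dvd_trans ?_ h2
    exact ⟨5832, by omega⟩
  have h := h5.trans (card_dvd_of_le hle)
  rw [card_eq_card_quotient_mul_card_subgroup (F.A.subgroupOf F.NA),
    Nat.card_congr (subgroupOfEquivOfLe (le_normalizer : F.A ≤ F.NA)).toEquiv, F.card_A] at h
  exact (Nat.Coprime.dvd_mul_right (by norm_num : Nat.Coprime 5 (3 ^ 5))).1 h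

/-- The quotient is the Mathieu group of degree eleven. -/
theorem iso_M11 : Cfsg.Spor.IsoM11 F.NQ := by
  haveI := Cfsg.Lib.Small.CentralizerGL23.isSimpleGroup F.glEquiv F.order_zQ F.residual_top
  rcases Cfsg.Lib.Small.CentralizerGL23.card_eq F.glEquiv F.order_zQ with h | h
  · exfalso
    have h5 := F.five_dvd
    rw [h] at h5
    norm_num at h5
  · exact Cfsg.Lib.MEleven.isoM11 ⟨inferInstance, h⟩

end Ax

end Cfsg.Lib.Extra.SuzFive
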