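import Cfsg.Agent.Lib.Extra.SuzFive.ASub

/-!
# The group of order 27 and its normalizing elements in the centralizer of `z`
-/

set_option autoImplicit false
set_option maxRecDepth 10000
set_option linter.style.haveILetI false
set_option linter.unusedSectionVars false

namespace Cfsg.Lib.Extra.SuzFive

open Cfsg Module Cfsg.Lib.Linear Cfsg.Lib.Linear.Orth Cfsg.Lib.Extra.Wide Cfsg.Lib.Extra.SuzLocal
open Cfsg.Lib.Extra.SuzThree
open Subgroup
open scoped Matrix

theorem eW_sep : ((List.range 3).all fun l => (List.range 3).all fun k => (List.range 3).all fun n =>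
    (List.range 3).all fun l' => (List.range 3).all fun k' => (List.range 3).all fun n' =>
      !Nat.beq (key (eW l k n)) (key (eW l' k' n')) || (Nat.beq l l' && Nat.beq k k' && Nat.beq n n')) = true := by
  decide +kernel

/-- Only the single rotations fix sixteen vectors. -/
theorem fix_count : ((List.range 3).all fun l => (List.range 3).all fun k => (List.range 3).all fun n =>
    !Nat.beq ((List.range 64).filter fun x => Nat.beq (wM (eW l k n) x) x).length 16 ||
      ((Nat.beq k 0 && Nat.beq n 0) || (Nat.beq l 0 && Nat.beq n 0) || (Nat.beq l 0 && Nat.beq k 0))) = true := by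
  decide +kernel

theorem fix_count_R0 : ((List.range 64).filter fun x => Nat.beq (wM R0 x) x).length = 16 := by decide +kernel

/-- The exchange of the first two planes and the inverter permute the rotations. -/
theorem perm_checks : key (S01 ++ R0) = key (eW 0 1 0 ++ S01) ∧ key (S01 ++ R1) = key (eW 1 0 0 ++ S01) ∧
    key (S01 ++ R2) = key (eW 0 0 1 ++ S01) ∧ key (N0 ++ R0) = key (eW 2 0 0 ++ N0) ∧
    key (N0 ++ R1) = key (eW 0 2 0 ++ N0) ∧ key (N0 ++ R2) = key (eW 0 0 1 ++ N0) := by decide +kernel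

variable {G : Type*} [Group G] {ι : Type} [Fintype ι] [DecidableEq ι] {D : Data G ι}

theorem coords_ncard_fix (K : Coords D) {w : List ℕ} (hw : good w = true) :
    {v : ι → ZMod 2 | (K.W w).val *ᵥ v = v}.ncard = ((List.range 64).filter fun x => Nat.beq (wM w x) x).length := by
  classical
  have hset : {v : ι → ZMod 2 | (K.W w).val *ᵥ v = v} =
      K.φ '' {x | x ∈ (List.range 64).filter fun x => Nat.beq (wM w x) x} := by
    ext v
    simp only [Set.mem_ofPred_eq, Set.mem_image, List.mem_filter, List.mem_range, Nat.beq_eq]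
    constructor
    · intro hv
      obtain ⟨n, hn, rfl⟩ := K.surj v
      rw [K.W_act hw hn] at hv
      exact ⟨n, ⟨hn, K.inj (wM_lt hw hn) hn hv⟩, rfl⟩
    · rintro ⟨n, ⟨hn, e⟩, rfl⟩
      rw [K.W_act hw hn, e]
  rw [hset, Set.InjOn.ncard_image]
  · rw [show {x | x ∈ (List.range 64).filter fun x => Nat.beq (wM w x) x} =
        (((List.range 64).filter fun x => Nat.beq (wM w x) x).toFinset : Set ℕ) by ext; simp,
      Set.ncard_coe_finset, List.toFinset_card_of_nodup (List.Nodup.filter _ List.nodup_range)]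
  · intro a ha b hb e
    simp only [Set.mem_ofPred_eq, List.mem_filter, List.mem_range] at ha hb
    exact K.inj ha.1 hb.1 e

/-- The three elements. -/
def ax (T : Tri D) : Fin 3 → G := ![T.y0, T.y1, T.y2]

/-- The element with given exponents. -/
def el (T : Tri D) (l k n : ℕ) : G := T.y0 ^ l * (T.y1 ^ k * T.y2 ^ n)

theorem el_act (T : Tri D) (l k n : ℕ) : D.act (el T l k n) = T.K.W (eW l k n) := T.act_rot l k n

theorem el_comm_z (T : Tri D) (l k n : ℕ) : Commute (el T l k n) D.z :=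
  (T.z0.pow_left l).mul_left ((T.z1.pow_left k).mul_left (T.z2.pow_left n))

theorem tz_cases {T : Tri D} {w : G} (hw : w ∈ Ax.tz (T := T)) : ∃ l < 3, ∃ k < 3, ∃ n < 3, w = el T l k n := by
  have hm : ∀ l k n, el T (l % 3) (k % 3) (n % 3) = el T l k n := fun l k n => by
    rw [el, el, ← pow_eq_pow_mod _ T.cube0, ← pow_eq_pow_mod _ T.cube1, ← pow_eq_pow_mod _ T.cube2]
  have hmul : ∀ l k n l' k' n', el T l k n * el T l' k' n' = el T (l + l') (k + k') (n + n') := by
    intro l k n l' k' n'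
    rw [el, el, el, (((T.c01.symm.pow_pow k l').mul_left (T.c02.symm.pow_pow n l'))).mul_mul_mul_comm,
      (T.c12.symm.pow_pow n k').mul_mul_mul_comm, ← pow_add, ← pow_add, ← pow_add]
  induction hw using closure_induction with
  | mem x hx =>
    rcases hx with rfl | rfl | rfl
    exacts [⟨1, by norm_num, 0, by norm_num, 0, by norm_num, by simp [el]⟩,
      ⟨0, by norm_num, 1, by norm_num, 0, by norm_num, by simp [el]⟩,
      ⟨0, by norm_num, 0, by norm_num, 1, by norm_num, by simp [el]⟩]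
  | one => exact ⟨0, by norm_num, 0, by norm_num, 0, by norm_num, by simp [el]⟩
  | mul x y _ _ hx hy =>
    obtain ⟨l, -, k, -, n, -, rfl⟩ := hx
    obtain ⟨l', -, k', -, n', -, rfl⟩ := hy
    exact ⟨_, Nat.mod_lt (l + l') (by norm_num), _, Nat.mod_lt (k + k') (by norm_num), _,
      Nat.mod_lt (n + n') (by norm_num), by rw [hm, hmul]⟩
  | inv x _ hx =>
    obtain ⟨l, -, k, -, n, -, rfl⟩ := hx
    refine ⟨_, Nat.mod_lt (2 * l) (by norm_num), _, Nat.mod_lt (2 * k) (by norm_num), _,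
      Nat.mod_lt (2 * n) (by norm_num), inv_eq_of_mul_eq_one_right ?_⟩
    rw [hm, hmul, ← hm]
    simp [el, show l + 2 * l = 3 * l by ring, show k + 2 * k = 3 * k by ring, show n + 2 * n = 3 * n by ring]

theorem el_mem (T : Tri D) (l k n : ℕ) : el T l k n ∈ Ax.tz (T := T) :=
  mul_mem (pow_mem (subset_closure (by simp)) l)
    (mul_mem (pow_mem (subset_closure (by simp)) k) (pow_mem (subset_closure (by simp)) n))

theorem ax_mem (T : Tri D) (i : Fin 3) : ax T i ∈ Ax.tz (T := T) := by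
  fin_cases i <;> exact subset_closure (by simp [ax])

theorem tz_z {T : Tri D} {w : G} (hw : w ∈ Ax.tz (T := T)) : Commute w D.z := by
  obtain ⟨l, -, k, -, n, -, rfl⟩ := tz_cases hw
  exact el_comm_z T l k n

theorem el_inj (T : Tri D) {l k n l' k' n' : ℕ} (hl : l < 3) (hk : k < 3) (hn : n < 3) (hl' : l' < 3)
    (hk' : k' < 3) (hn' : n' < 3) (h : D.act (el T l k n) = D.act (el T l' k' n')) : l = l' ∧ k = k' ∧ n = n' := by
  rw [el_act, el_act] at h
  have e := T.K.key_eq (good_eW l k n) (good_eW l' k' n') h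
  have hs := List.all_eq_true.1 (List.all_eq_true.1 (List.all_eq_true.1 (List.all_eq_true.1 (List.all_eq_true.1
    (List.all_eq_true.1 eW_sep l (List.mem_range.2 hl)) k (List.mem_range.2 hk)) n (List.mem_range.2 hn))
      l' (List.mem_range.2 hl')) k' (List.mem_range.2 hk')) n' (List.mem_range.2 hn')
  simp only [e, Nat.beq_refl, Bool.not_true, Bool.false_or, Bool.and_eq_true, Nat.beq_eq] at hs
  exact ⟨hs.1.1, hs.1.2, hs.2⟩

theorem tz_ext {T : Tri D} {v w : G} (hv : v ∈ Ax.tz (T := T)) (hw : w ∈ Ax.tz (T := T)) (h : D.act v = D.act w) :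
    v = w := by
  obtain ⟨l, hl, k, hk, n, hn, rfl⟩ := tz_cases hv
  obtain ⟨l', hl', k', hk', n', hn', rfl⟩ := tz_cases hw
  obtain ⟨rfl, rfl, rfl⟩ := el_inj T hl hk hn hl' hk' hn' h
  rfl

theorem card_tz (T : Tri D) : Nat.card (Ax.tz (T := T)) = 27 := by
  let f : Fin 3 × Fin 3 × Fin 3 → Ax.tz (T := T) := fun p => ⟨el T p.1 p.2.1 p.2.2, el_mem T _ _ _⟩
  have hf : Function.Bijective f := by
    refine ⟨?_, fun w => ?_⟩
    · rintro ⟨a, b, c⟩ ⟨a', b', c'⟩ e
      obtain ⟨h1, h2, h3⟩ := el_inj T a.2 b.2 c.2 a'.2 b'.2 c'.2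
        (show D.act (el T a b c) = D.act (el T a' b' c') from congrArg (fun v : Ax.tz (T := T) => D.act (v : G)) e)
      exact Prod.ext (Fin.ext h1) (Prod.ext (Fin.ext h2) (Fin.ext h3))
    · obtain ⟨l, hl, k, hk, n, hn, e⟩ := tz_cases w.2
      exact ⟨(⟨l, hl⟩, ⟨k, hk⟩, ⟨n, hn⟩), Subtype.ext e.symm⟩
  rw [← Nat.card_eq_of_bijective f hf, Nat.card_prod, Nat.card_prod, Nat.card_fin]

theorem ax_facts (T : Tri D) : (∀ i, ax T i ^ 3 = 1) ∧ (∀ i, ax T i ≠ (ax T i)⁻¹) ∧
    ∀ i j, i ≠ j → ax T i ≠ ax T j ∧ ax T i ≠ (ax T j)⁻¹ := by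
  have e : ∀ i : Fin 3, ax T i = el T (if i = 0 then 1 else 0) (if i = 1 then 1 else 0) (if i = 2 then 1 else 0) := by
    intro i; fin_cases i <;> simp [ax, el]
  have ei : ∀ i : Fin 3, (ax T i)⁻¹ =
      el T (if i = 0 then 2 else 0) (if i = 1 then 2 else 0) (if i = 2 then 2 else 0) := by
    intro i
    fin_cases i <;> simp only [ax, el] <;> refine inv_eq_of_mul_eq_one_right ?_
    · simp [← pow_succ', T.cube0]
    · simp [← pow_succ', T.cube1]
    · simp [← pow_succ', T.cube2]
  refine ⟨fun i => ?_, fun i h => ?_, fun i j hij => ⟨fun h => ?_, fun h => ?_⟩⟩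
  · fin_cases i
    exacts [T.cube0, T.cube1, T.cube2]
  all_goals
    first | rw [ei, e] at h | rw [e, e] at h
    have := el_inj T (by split_ifs <;> norm_num) (by split_ifs <;> norm_num) (by split_ifs <;> norm_num)
      (by split_ifs <;> norm_num) (by split_ifs <;> norm_num) (by split_ifs <;> norm_num) (congrArg D.act h)
  · fin_cases i <;> simp at this
  · fin_cases i <;> fin_cases j <;> simp at this hij
  · fin_cases i <;> fin_cases j <;> simp at this hij

variable [Finite G]

/-- A conjugate of the first element in the group of order 27 is one of six. -/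
theorem six {T : Tri D} {k w : G} (hk : Commute k D.z) (hw : w ∈ Ax.tz (T := T)) (e : k * T.y0 * k⁻¹ = w) :
    ∃ i, w = ax T i ∨ w = (ax T i)⁻¹ := by
  obtain ⟨l, hl, a, ha, n, hn, rfl⟩ := tz_cases hw
  have hact : D.act (el T l a n) = D.act k * D.act T.y0 * (D.act k)⁻¹ := by
    rw [← e, D.act_mul _ _ (hk.mul_left T.z0) hk.inv_left, D.act_mul _ _ hk T.z0, D.act_inv hk]
  have hbij : {v : ι → ZMod 2 | (D.act (el T l a n)).val *ᵥ v = v}.ncard =
      {v : ι → ZMod 2 | (D.act T.y0).val *ᵥ v = v}.ncard := by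
    rw [show {v : ι → ZMod 2 | (D.act (el T l a n)).val *ᵥ v = v} =
        (fun v => (D.act k).val *ᵥ v) '' {v : ι → ZMod 2 | (D.act T.y0).val *ᵥ v = v} by
      ext v
      simp only [Set.mem_ofPred_eq, Set.mem_image, hact, mul_act]
      constructor
      · intro hv
        refine ⟨((D.act k)⁻¹).val *ᵥ v, act_injective (D.act k) ?_, act_inv _ _⟩
        show (D.act k).val *ᵥ _ = (D.act k).val *ᵥ _
        rw [hv, act_inv]
      · rintro ⟨u, hu, rfl⟩
        rw [← mul_act (D.act k)⁻¹, inv_mul_cancel, Units.val_one, Matrix.one_mulVec, hu],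
      Set.ncard_image_of_injective _ (act_injective (D.act k))]
  rw [el_act, T.act0, coords_ncard_fix T.K (good_eW l a n), coords_ncard_fix T.K good_words.1, fix_count_R0] at hbij
  have hs := List.all_eq_true.1 (List.all_eq_true.1 (List.all_eq_true.1 fix_count l (List.mem_range.2 hl))
    a (List.mem_range.2 ha)) n (List.mem_range.2 hn)
  simp only [hbij, Nat.beq_refl, Bool.not_true, Bool.false_or, Bool.or_eq_true, Bool.and_eq_true, Nat.beq_eq] at hs
  have h0 : el T l a n ≠ 1 := fun h => by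
    rw [h] at e
    have h1 : T.y0 = 1 := conj_eq_one_iff.1 e
    have := T.order_y0
    rw [h1, orderOf_one] at this
    norm_num at this
  have inv2 : ∀ {y : G}, y ^ 3 = 1 → y ^ 2 = y⁻¹ := fun {y} hy =>
    eq_inv_of_mul_eq_one_left (by rw [← pow_succ, hy])
  rcases hs with (⟨rfl, rfl⟩ | ⟨rfl, rfl⟩) | ⟨rfl, rfl⟩
  · refine ⟨0, ?_⟩
    simp only [el, pow_zero, mul_one, ax, Matrix.cons_val_zero] at h0 ⊢
    interval_cases l
    · simp at h0
    · simp
    · exact Or.inr (inv2 T.cube0)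
  · refine ⟨1, ?_⟩
    simp only [el, pow_zero, mul_one, one_mul, ax, Matrix.cons_val_one, Matrix.cons_val_zero] at h0 ⊢
    interval_cases a
    · simp at h0
    · simp
    · exact Or.inr (inv2 T.cube1)
  · refine ⟨2, ?_⟩
    simp only [el, pow_zero, one_mul, ax, Matrix.cons_val] at h0 ⊢
    interval_cases n
    · simp at h0
    · simp
    · exact Or.inr (inv2 T.cube2)

/-- A word permuting the rotations is induced by an element permuting the three elements. -/
theorem lift_perm (T : Tri D) {w : List ℕ} (hw : good w = true) (he : Even w.length)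
    {t : Fin 3 → ℕ × ℕ × ℕ}
    (h : ∀ i, key (w ++ ![R0, R1, R2] i) = key (eW (t i).1 (t i).2.1 (t i).2.2 ++ w)) :
    ∃ c, Commute c D.z ∧ ∀ i, c * ax T i * c⁻¹ = el T (t i).1 (t i).2.1 (t i).2.2 := by
  haveI : Fact (Nat.Prime 3) := ⟨Nat.prime_three⟩
  haveI : Fact (Nat.Prime 2) := ⟨Nat.prime_two⟩
  obtain ⟨c, hc, hca⟩ := D.act_surj (T.K.W w) (T.K.W_omega hw he)
  set Tz := Ax.tz (T := T) with hTz
  have hax : ∀ i, Commute (ax T i) D.z ∧ D.act (ax T i) = T.K.W (![R0, R1, R2] i) := by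
    intro i; fin_cases i
    exacts [⟨T.z0, T.act0⟩, ⟨T.z1, T.act1⟩, ⟨T.z2, T.act2⟩]
  have hgood : ∀ i : Fin 3, good (![R0, R1, R2] i) = true := by
    intro i; fin_cases i
    exacts [good_words.1, good_words.2.1, good_words.2.2.1]
  have himg : ∀ i, D.act (c * ax T i * c⁻¹) = D.act (el T (t i).1 (t i).2.1 (t i).2.2) := fun i => by
    rw [D.act_mul _ _ (hc.mul_left (hax i).1) hc.inv_left, D.act_mul _ _ hc (hax i).1, D.act_inv hc, hca,
      (hax i).2, ← T.K.W_append, el_act, T.K.W_eq (good_append.2 ⟨hw, hgood i⟩)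
        (good_append.2 ⟨good_eW _ _ _, hw⟩) (h i), T.K.W_append, mul_inv_cancel_right]
  -- the preimage of the actions
  have hnorm : Tz ≤ normalizer (D.Q : Set G) := fun g hg => mem_normalizer_fintype fun q hq =>
    D.conj_mem (tz_z hg) hq
  set R := Tz ⊔ D.Q with hR
  have hmem : ∀ g, g ∈ R ↔ ∃ s ∈ Tz, ∃ q ∈ D.Q, s * q = g := fun g => by
    rw [hR, ← SetLike.mem_coe, coe_mul_of_left_le_normalizer_right _ _ hnorm, Set.mem_mul]
    rfl
  have hin : Tz.map (MulAut.conj c).toMonoidHom ≤ R := by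
    rw [hTz, Ax.tz, MonoidHom.map_closure, closure_le]
    rintro _ ⟨g, hg, rfl⟩
    obtain ⟨i, rfl⟩ : ∃ i, ax T i = g := by
      rcases hg with rfl | rfl | rfl
      exacts [⟨0, rfl⟩, ⟨1, rfl⟩, ⟨2, rfl⟩]
    show c * ax T i * c⁻¹ ∈ R
    have hd : Commute (c * ax T i * c⁻¹) D.z := (hc.mul_left (hax i).1).mul_left hc.inv_left
    refine (hmem _).2 ⟨_, el_mem T (t i).1 (t i).2.1 (t i).2.2, _, (D.act_ker _
      ((el_comm_z T _ _ _).inv_left.mul_left hd)).1 ?_, mul_inv_cancel_left _ _⟩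
    rw [D.act_mul _ _ (el_comm_z T _ _ _).inv_left hd, D.act_inv (el_comm_z T _ _ _), himg, inv_mul_cancel]
  have hTR : Tz ≤ R := le_sup_left
  have hQ2 : IsPGroup 2 D.Q := fun q => ⟨2, Subtype.ext (q_four q.2)⟩
  obtain ⟨a, ha⟩ := IsPGroup.iff_card.1 hQ2
  have hcardR : Nat.card R = 27 * 2 ^ a := by
    let f : Tz × D.Q → R := fun p => ⟨p.1 * p.2, (hmem _).2 ⟨_, p.1.2, _, p.2.2, rfl⟩⟩
    have hf : Function.Bijective f := by
      refine ⟨?_, fun g => ?_⟩
      · rintro ⟨⟨s, hs⟩, ⟨q, hq⟩⟩ ⟨⟨s', hs'⟩, ⟨q', hq'⟩⟩ e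
        have e0 : s * q = s' * q' := congrArg Subtype.val e
        have e1 : s = s' := tz_ext hs hs' (by
          have := congrArg D.act e0
          rwa [D.act_mul _ _ (tz_z hs) (D.ctx.central q hq).symm, D.act_mul _ _ (tz_z hs') (D.ctx.central q' hq').symm,
            D.act_q hq, D.act_q hq', mul_one, mul_one] at this)
        subst e1
        obtain rfl := mul_left_cancel e0
        rfl
      · obtain ⟨s, hs, q, hq, e⟩ := (hmem _).1 g.2
        exact ⟨(⟨s, hs⟩, ⟨q, hq⟩), Subtype.ext e⟩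
    rw [← Nat.card_eq_of_bijective f hf, Nat.card_prod, hTz, card_tz, ha]
  have hfac : (Nat.card R).factorization 3 = 3 := by
    rw [hcardR, show (27 : ℕ) = 3 ^ 3 by norm_num, Nat.factorization_mul (by positivity) (by positivity),
      Finsupp.add_apply, Nat.Prime.factorization_pow Nat.prime_three, Finsupp.single_eq_same,
      Nat.Prime.factorization_pow Nat.prime_two]
    simp
  have hT27 : Nat.card (Tz.subgroupOf R) = 3 ^ (Nat.card R).factorization 3 := by
    rw [hfac, Nat.card_congr (subgroupOfEquivOfLe hTR).toEquiv, hTz, card_tz]; norm_num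
  have hC27 : Nat.card ((Tz.map (MulAut.conj c).toMonoidHom).subgroupOf R) = 3 ^ (Nat.card R).factorization 3 := by
    rw [hfac, Nat.card_congr (subgroupOfEquivOfLe hin).toEquiv,
      card_map_of_injective (f := (MulAut.conj c).toMonoidHom) (EquivLike.injective (MulAut.conj c)), hTz, card_tz]
    norm_num
  obtain ⟨r, hr⟩ := MulAction.exists_smul_eq R (Sylow.ofCard _ hC27) (Sylow.ofCard _ hT27)
  obtain ⟨s, hs, q, hq, hrq⟩ := (hmem _).1 r.2
  have hqz : Commute q D.z := (D.ctx.central q hq).symm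
  have hconj : ∀ g ∈ Tz.map (MulAut.conj c).toMonoidHom, q * g * q⁻¹ ∈ Tz := by
    intro g hg
    have h1 : MulAut.conj r ⟨g, hin hg⟩ ∈ Tz.subgroupOf R := by
      have e : ((r • (Sylow.ofCard _ hC27) : Sylow 3 R) : Subgroup R) = Tz.subgroupOf R := by rw [hr]; rfl
      rw [← e, Sylow.coe_subgroup_smul]
      exact smul_mem_pointwise_smul _ _ _ hg
    rw [mem_subgroupOf] at h1
    simp only [MulAut.conj_apply, Subgroup.coe_mul, InvMemClass.coe_inv, ← hrq] at h1
    have := mul_mem (mul_mem (inv_mem hs) h1) hs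
    rwa [show s⁻¹ * (s * q * g * (s * q)⁻¹) * s = q * g * q⁻¹ by group] at this
  refine ⟨q * c, hqz.mul_left hc, fun i => ?_⟩
  have hmem2 := hconj _ ⟨_, ax_mem T i, rfl⟩
  change q * (c * ax T i * c⁻¹) * q⁻¹ ∈ Tz at hmem2
  rw [show q * c * ax T i * (q * c)⁻¹ = q * (c * ax T i * c⁻¹) * q⁻¹ by group]
  refine tz_ext hmem2 (el_mem T _ _ _) ?_
  have hd : Commute (c * ax T i * c⁻¹) D.z := (hc.mul_left (hax i).1).mul_left hc.inv_left
  rw [D.act_mul _ _ (hqz.mul_left hd) hqz.inv_left, D.act_mul _ _ hqz hd, D.act_inv hqz, D.act_q hq, one_mul,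
    inv_one, mul_one, himg]

end Cfsg.Lib.Extra.SuzFive
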